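import Cfsg.Agent.H94.Mult.TwoPartSound

/-!
Power-commutator rules: the ordered products exhaust the generated subgroup, and are distinct when
no generator lies in the subgroup of the later ones.
-/

set_option autoImplicit false

namespace Cfsg.Agent.H94.Ru

open Cfsg.Agent.H94.Mult (bitsOf)

variable {P : Type*} [Group P] (g : ℕ → P) (n : ℕ)

/-- An ordered product. -/
def nfp (m : ℕ) : P := ((bitsOf n m).map g).prod

/-- The subgroup of the generators from `i` on. -/
def later (i : ℕ) : Subgroup P := Subgroup.closure {x | ∃ k, i ≤ k ∧ k < n ∧ g k = x}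

variable {g n}

lemma bit_ge {m i k : ℕ} (h : m % 2 ^ i = 0) (hk : m.testBit k = true) : i ≤ k := by
  by_contra hlt
  have h3 := congrArg (fun x => x.testBit k) h
  simp only [Nat.testBit_mod_two_pow, Nat.not_le.1 hlt, decide_true, Bool.true_and,
    Nat.zero_testBit, hk] at h3
  exact Bool.noConfusion h3

lemma nfp_mem {m i : ℕ} (h : m % 2 ^ i = 0) : nfp g n m ∈ later g n i :=
  list_prod_mem fun y hy => by
    obtain ⟨k, hk, rfl⟩ := List.mem_map.1 hy
    simp only [bitsOf, List.mem_filter, List.mem_range] at hk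
    exact Subgroup.subset_closure ⟨k, bit_ge h hk.2, hk.1, rfl⟩

lemma nfp_zero : nfp g n 0 = 1 := by simp [nfp, bitsOf]

lemma nfp_cons {m i : ℕ} (hi : i < n) (h : m % 2 ^ (i + 1) = 0) :
    nfp g n (m ^^^ 2 ^ i) = g i * nfp g n m := by
  have hlow : ∀ k, k ≤ i → m.testBit k = false := fun k hk => by
    by_contra hb
    have := bit_ge h (Bool.not_eq_false _ ▸ hb)
    omega
  have hr : List.range n = List.range i ++ i :: List.range' (i + 1) (n - i - 1) := by
    have h1 : List.range' 0 n = List.range' 0 i ++ List.range' (0 + i) (n - i) := by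
      rw [List.range'_append_1, show i + (n - i) = n by omega]
    rw [List.range_eq_range', List.range_eq_range', h1, Nat.zero_add]
    conv_lhs => rw [show n - i = (n - i - 1) + 1 by omega]
    rfl
  have e : bitsOf n (m ^^^ 2 ^ i) = i :: bitsOf n m := by
    simp only [bitsOf, hr, List.filter_append, List.filter_cons]
    have h1 : (List.range i).filter (fun k => (m ^^^ 2 ^ i).testBit k) = [] := by
      refine List.filter_eq_nil_iff.2 fun k hk => ?_
      rw [List.mem_range] at hk
      simp [Nat.testBit_xor, Nat.testBit_two_pow, hlow k hk.le, hk.ne']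
    have h2 : (List.range i).filter (fun k => m.testBit k) = [] := by
      refine List.filter_eq_nil_iff.2 fun k hk => ?_
      rw [List.mem_range] at hk
      simp [hlow k hk.le]
    have h3 : (List.range' (i + 1) (n - i - 1)).filter (fun k => (m ^^^ 2 ^ i).testBit k)
        = (List.range' (i + 1) (n - i - 1)).filter (fun k => m.testBit k) := by
      refine List.filter_congr fun k hk => ?_
      rw [List.mem_range'_1] at hk
      simp [Nat.testBit_xor, Nat.testBit_two_pow, show i ≠ k by omega]
    rw [h1, h2, h3]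
    simp [Nat.testBit_xor, Nat.testBit_two_pow, hlow i le_rfl]
  rw [nfp, e, List.map_cons, List.prod_cons]
  rfl

variable [Finite P] {lo : ℕ}
  (hsq : ∀ i < n, lo ≤ i → ∃ m, m % 2 ^ (i + 1) = 0 ∧ g i * g i = nfp g n m)
  (hcm : ∀ i j, lo ≤ i → i < j → j < n →
    ∃ m, m % 2 ^ (i + 1) = 0 ∧ g j * g i = g i * g j * nfp g n m)

include hsq hcm in
/-- The ordered products exhaust the subgroup. -/
theorem exists_nfp : ∀ d i, i + d = n → lo ≤ i → ∀ x ∈ later g n i,
    ∃ m < 2 ^ n, m % 2 ^ i = 0 ∧ nfp g n m = x := by
  intro d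
  induction d with
  | zero =>
    intro i hi _ x hx
    have hx1 : x = 1 := by
      have : later g n i = ⊥ := by
        rw [later, Subgroup.closure_eq_bot_iff]
        rintro _ ⟨k, h1, h2, -⟩
        omega
      rwa [this, Subgroup.mem_bot] at hx
    exact ⟨0, Nat.two_pow_pos _, Nat.zero_mod _, by rw [nfp_zero, hx1]⟩
  | succ d ih =>
    intro i hi hlo x hx
    have hin : i < n := by omega
    have hsub : ∀ k, i < k → k < n → g k ∈ later g n (i + 1) := fun k h1 h2 =>
      Subgroup.subset_closure ⟨k, h1, h2, rfl⟩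
    -- every element is a later one, possibly after the generator
    have key : x ∈ later g n (i + 1) ∨ ∃ h ∈ later g n (i + 1), x = g i * h := by
      have hx' : x ∈ Submonoid.closure {x | ∃ k, i ≤ k ∧ k < n ∧ g k = x} := by
        rw [← Subgroup.closure_toSubmonoid_of_finite]; exact hx
      clear hx
      induction hx' using Submonoid.closure_induction_left with
      | one => exact Or.inl (one_mem _)
      | mul_left y hy z hz ihz =>
        obtain ⟨k, hk, hkn, rfl⟩ := hy
        rcases Nat.eq_or_lt_of_le hk with rfl | hlt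
        · rcases ihz with h | ⟨h, hh, rfl⟩
          · exact Or.inr ⟨z, h, rfl⟩
          · obtain ⟨w, hw, e⟩ := hsq i hin hlo
            refine Or.inl ?_
            rw [← mul_assoc, e]
            exact mul_mem (nfp_mem hw) hh
        · rcases ihz with h | ⟨h, hh, rfl⟩
          · exact Or.inl (mul_mem (hsub k hlt hkn) h)
          · obtain ⟨w, hw, e⟩ := hcm i k hlo hlt hkn
            refine Or.inr ⟨g k * nfp g n w * h, mul_mem (mul_mem (hsub k hlt hkn) (nfp_mem hw)) hh,
              ?_⟩
            rw [← mul_assoc (g k), e]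
            simp only [mul_assoc]
    rcases key with h | ⟨h, hh, rfl⟩
    · obtain ⟨m, hm, hm0, e⟩ := ih (i + 1) (by omega) (by omega) x h
      exact ⟨m, hm, Nat.mod_eq_zero_of_dvd
        ((pow_dvd_pow 2 (Nat.le_succ i)).trans (Nat.dvd_of_mod_eq_zero hm0)), e⟩
    · obtain ⟨m, hm, hm0, e⟩ := ih (i + 1) (by omega) (by omega) h hh
      refine ⟨m ^^^ 2 ^ i, Nat.xor_lt_two_pow hm (Nat.pow_lt_pow_right (by norm_num) hin), ?_, ?_⟩
      · refine Nat.eq_of_testBit_eq fun k => ?_
        rw [Nat.testBit_mod_two_pow, Nat.zero_testBit]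
        by_cases hk : k < i
        · have hmk : m.testBit k = false := by
            by_contra hmk
            have := bit_ge hm0 (Bool.not_eq_false _ ▸ hmk)
            omega
          simp [Nat.testBit_xor, hmk, hk.ne']
        · simp [hk]
      · rw [nfp_cons hin hm0, e]

include hsq hcm in
/-- When each generator is outside the later subgroup there are `2 ^ (n - i)` elements. -/
theorem card_later (hsep : ∀ i < n, lo ≤ i → g i ∉ later g n (i + 1)) :
    ∀ d i, i + d = n → lo ≤ i → 2 ^ d ≤ Nat.card (later g n i) := by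
  intro d
  induction d with
  | zero => intro i _ _; exact Nat.one_le_iff_ne_zero.2 Nat.card_pos.ne'
  | succ d ih =>
    intro i hi hlo
    have hle : later g n (i + 1) ≤ later g n i :=
      Subgroup.closure_mono fun x ⟨k, h1, h2, h3⟩ => ⟨k, by omega, h2, h3⟩
    obtain ⟨c, hc⟩ := Subgroup.card_dvd_of_le hle
    have hc1 : c ≠ 1 := fun h => by
      rw [h, mul_one] at hc
      refine hsep i (by omega) hlo ?_
      rw [Subgroup.eq_of_le_of_card_ge hle hc.le]
      exact Subgroup.subset_closure ⟨i, le_rfl, by omega, rfl⟩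
    have hc0 : c ≠ 0 := fun h => Nat.card_pos.ne' (by rw [h, mul_zero] at hc; exact hc)
    have := ih (i + 1) (by omega) (by omega)
    rw [hc, pow_succ]
    exact Nat.mul_le_mul this (by omega)

include hsq hcm in
/-- The ordered products are distinct. -/
theorem nfp_bijective (hlo : lo = 0) (hsep : ∀ i < n, g i ∉ later g n (i + 1)) :
    Function.Bijective (fun m : Fin (2 ^ n) =>
      (⟨nfp g n m, nfp_mem (Nat.mod_one _)⟩ : later g n 0)) := by
  subst hlo
  have hs : Function.Surjective (fun m : Fin (2 ^ n) =>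
      (⟨nfp g n m, nfp_mem (Nat.mod_one _)⟩ : later g n 0)) := fun x => by
    obtain ⟨m, hm, -, e⟩ := exists_nfp hsq hcm n 0 (Nat.zero_add n) le_rfl x.1 x.2
    exact ⟨⟨m, hm⟩, Subtype.ext e⟩
  refine hs.bijective_of_nat_card_le ?_
  rw [Nat.card_fin]
  exact card_later hsq hcm (fun i hi _ => hsep i hi) n 0 (Nat.zero_add n) le_rfl

end Cfsg.Agent.H94.Ru
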