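import Mathlib.Data.Nat.Notation

/-!
Each coordinate vector as a sum of points.
-/

set_option autoImplicit false

namespace Cfsg.Agent.H94.Ru

/-- The points summing to a coordinate vector. -/
def spanList : List (List ℕ) := [
  [4, 5, 6, 10, 11, 12, 16, 17],
  [1, 3, 4, 6, 7, 8, 9, 11, 13, 15, 16, 17],
  [1, 2, 3, 4, 6, 7, 8, 10, 11, 12, 13, 14],
  [0, 3, 5, 7, 8, 9, 10, 12, 13, 15],
  [0, 1, 2, 5, 14, 15],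
  [0, 1, 4, 5, 8, 10, 11, 12, 13, 15],
  [1, 2, 3, 4, 5, 7, 9, 10, 11, 12, 13, 14, 16, 17],
  [0, 1, 3, 9, 13, 14],
  [0, 1, 7, 9, 11, 12, 16, 17],
  [0, 1, 3, 8, 10, 11, 13, 14, 16, 17],
  [1, 5, 6, 7, 9, 10],
  [1, 2, 4, 5, 7, 9, 10, 11, 13, 15],
  [2, 3, 4, 6, 7, 9, 11, 12, 14, 15, 16, 17],
  [2, 3, 4, 6, 9, 10, 13, 14, 16, 17],
  [2, 3, 4, 5, 6, 8, 9, 12, 13, 14],
  [1, 2, 4, 6, 7, 8, 10, 11, 12, 13, 16, 17],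
  [3, 7, 11, 17],
  [6, 9, 10, 20],
  [1, 3, 9, 13, 15, 28],
  [0, 4, 5, 6, 10, 11, 12, 16, 17, 49],
  [0, 3, 5, 6, 7, 8, 12, 13, 15, 78],
  [1, 2, 5, 9, 10, 118],
  [4, 204],
  [0, 2, 5, 7, 9, 10, 11, 13, 15, 348],
  [3, 5, 8, 10, 12, 14, 15, 620],
  [3, 7, 8, 13, 15, 16, 17, 1132],
  [1, 3, 9, 11, 12, 13, 15, 2108],
  [3, 4, 7, 9, 11, 14, 16, 20, 28, 49, 78, 118, 204, 348, 620, 1132, 2108]]

end Cfsg.Agent.H94.Ru
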