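import Cfsg.Agent.PGroups.RuPermGroup
import Cfsg.Agent.H94.HS.Cert
import Cfsg.Agent.H94.Ru.Pc
import Cfsg.Agent.H94.Ru.Span

/-!
Elements of the group on 4060 points as packed 28 × 28 matrices over the field with two elements.
-/

set_option autoImplicit false
set_option maxRecDepth 20000

namespace Cfsg.Agent.H94.Ru

open Equiv
open Cfsg.Agent.PGroups.Ru (autGrp lin lin_xor lin_zero lin_lt pt pt_lt fp fp_val perm mat
  Repr repr_perm perm_mem_aut xext xorPts)

/-- The rows of a packed matrix. -/
def rowsOf (T : ℕ) : List ℕ := (List.range 28).map fun i => (T >>> (28 * i)) &&& 268435455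

/-- Pack rows. -/
def packR : List ℕ → ℕ
  | [] => 0
  | r :: rs => r + 268435456 * packR rs

/-- Product, left after right. -/
def mulM (A B : ℕ) : ℕ :=
  let RA := rowsOf A
  packR ((rowsOf B).map (lin RA))

/-- The identity. -/
def oneM : ℕ := packR ((List.range 28).map (2 ^ ·))

/-- The matrix of a word in the generators. -/
def wordM : List ℕ → ℕ
  | [] => oneM
  | g :: w => mulM (packR (mat g)) (wordM w)

/-- The permutation of a word in the generators. -/
def wordP : List ℕ → Perm (Fin 4060)
  | [] => 1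
  | g :: w => perm g * wordP w

lemma rowsOf_eq (T : ℕ) :
    rowsOf T = (List.range 28).map fun i => T / 268435456 ^ i % 268435456 := by
  refine List.map_congr_left fun i _ => ?_
  rw [Nat.shiftRight_eq_div_pow, show (268435455 : ℕ) = 2 ^ 28 - 1 by norm_num,
    Nat.and_two_pow_sub_one_eq_mod, pow_mul]
  norm_num

lemma getD_packR : ∀ (l : List ℕ), (∀ r ∈ l, r < 268435456) → ∀ i,
    packR l / 268435456 ^ i % 268435456 = l.getD i 0
  | [], _, i => by simp [packR]
  | r :: rs, h, 0 => by
    have := h r List.mem_cons_self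
    simp only [packR, pow_zero, Nat.div_one, List.getD_cons_zero]
    omega
  | r :: rs, h, i + 1 => by
    have := h r List.mem_cons_self
    rw [List.getD_cons_succ, ← getD_packR rs (fun x hx => h x (List.mem_cons_of_mem _ hx)) i,
      pow_succ', ← Nat.div_div_eq_div_mul]
    simp only [packR]
    rw [show (r + 268435456 * packR rs) / 268435456 = packR rs by omega]

lemma rowsOf_packR {l : List ℕ} (hl : l.length = 28) (h : ∀ r ∈ l, r < 268435456) :
    rowsOf (packR l) = l := by
  rw [rowsOf_eq]
  refine List.ext_getElem (by simp [hl]) fun i h1 h2 => ?_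
  rw [List.getElem_map, List.getElem_range, getD_packR l h, List.getD_eq_getElem _ _ h2]

lemma rowsOf_spec (T : ℕ) : (rowsOf T).length = 28 ∧ ∀ r ∈ rowsOf T, r < 268435456 := by
  rw [rowsOf_eq]
  refine ⟨by simp, fun r hr => ?_⟩
  obtain ⟨i, -, rfl⟩ := List.mem_map.1 hr
  exact Nat.mod_lt _ (by norm_num)

lemma lin_lt28 (l : List ℕ) (h : ∀ r ∈ l, r < 268435456) (v : ℕ) : lin l v < 268435456 :=
  (lin_lt (k := 28) l (fun r hr => (h r hr).trans_le (by norm_num)) v).trans_le (by norm_num)

lemma lin_map (A : List ℕ) : ∀ (B : List ℕ) (v : ℕ), lin (B.map (lin A)) v = lin A (lin B v)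
  | [], v => by simp [lin, lin_zero]
  | r :: rs, v => by
    simp only [List.map_cons, lin, lin_xor, lin_map A rs]
    split <;> simp [lin_zero]

lemma mulM_rows (A B : ℕ) :
    rowsOf (mulM A B) = (rowsOf B).map (lin (rowsOf A)) := by
  refine rowsOf_packR (by simp [(rowsOf_spec B).1]) fun r hr => ?_
  obtain ⟨x, -, rfl⟩ := List.mem_map.1 hr
  exact lin_lt28 _ (rowsOf_spec A).2 x

lemma oneM_rows : rowsOf oneM = (List.range 28).map (2 ^ ·) := by decide +kernel

lemma lin_oneM : ∀ v, v < 2 ^ 28 → lin (rowsOf oneM) v = v :=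
  xext (fun v => lin (rowsOf oneM) v) (fun v => v) (· ^^^ ·) 28 (fun a b => lin_xor _ a b)
    (fun _ _ => rfl) (lin_zero _) (by decide +kernel)

/-- The generator matrices are in packed normal form. -/
def checkMat : Bool :=
  (List.range 9).all fun g => (mat g).length == 28 && (mat g).all fun r => decide (r < 268435456)

lemma checkMat_ok : checkMat = true := by decide +kernel

lemma rows_gen {g : ℕ} (hg : g < 9) : rowsOf (packR (mat g)) = mat g := by
  have h := List.all_eq_true.1 checkMat_ok g (List.mem_range.2 hg)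
  simp only [Bool.and_eq_true, beq_iff_eq, List.all_eq_true, decide_eq_true_eq] at h
  exact rowsOf_packR h.1 h.2

lemma wordP_spec : ∀ w : List ℕ, (∀ g ∈ w, g < 9) →
    wordP w ∈ autGrp ∧ Repr (wordP w) (rowsOf (wordM w))
  | [], _ => ⟨one_mem _, fun x => by
      show pt (x : ℕ) = lin (rowsOf oneM) (pt x.1)
      rw [lin_oneM _ (pt_lt _)]⟩
  | g :: w, h => by
    obtain ⟨h1, h2⟩ := wordP_spec w fun x hx => h x (List.mem_cons_of_mem _ hx)
    have hg := h g List.mem_cons_self
    refine ⟨mul_mem (perm_mem_aut hg) h1, fun x => ?_⟩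
    show pt (perm g (wordP w x)).1 = _
    rw [repr_perm hg, h2, wordM, mulM_rows, lin_map, rows_gen hg]

/-- Membership by a list of known elements with their words. -/
def memW (known : List (ℕ × List ℕ)) (T : ℕ) : Bool :=
  known.any fun e => e.1 == T && (e.2.all fun g => decide (g < 9)) && wordM e.2 == T

/-- The operations. -/
def matOps (known : List (ℕ × List ℕ)) : HS.TOps where
  one := oneM
  mul := mulM
  mem := memW known

/-- A matrix in normal form inducing a permutation of the points. -/
def IsMat (T : ℕ) : Prop := packR (rowsOf T) = T ∧ ∃ σ ∈ autGrp, Repr σ (rowsOf T)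

open scoped Classical in
/-- The permutation of a matrix. -/
noncomputable def permOf (T : ℕ) : Perm (Fin 4060) :=
  if h : IsMat T then h.2.choose else 1

lemma permOf_spec {T : ℕ} (h : IsMat T) : permOf T ∈ autGrp ∧ Repr (permOf T) (rowsOf T) := by
  rw [permOf, dif_pos h]
  exact h.2.choose_spec

lemma pt_inj {x y : Fin 4060} (h : pt x.1 = pt y.1) : x = y :=
  Cfsg.Agent.PGroups.Ru.key_inj (by rw [h])

lemma permOf_eq {T : ℕ} (h : IsMat T) {σ : Perm (Fin 4060)} (hσ : Repr σ (rowsOf T)) :
    permOf T = σ :=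
  Equiv.ext fun x => pt_inj (by rw [(permOf_spec h).2 x, hσ x])

/-- The span of the points is everything. -/
def checkSpan : Bool :=
  spanList.length == 28 && (List.range 28).all fun a =>
    xorPts (spanList.getD a []) == 2 ^ a && (spanList.getD a []).all fun j => decide (j < 4060)

lemma checkSpan_ok : checkSpan = true := by decide +kernel

lemma lin_eq_of_points {M N : List ℕ} (h : ∀ x : Fin 4060, lin M (pt x.1) = lin N (pt x.1))
    (v : ℕ) (hv : v < 2 ^ 28) : lin M v = lin N v := by
  refine xext (lin M) (lin N) (· ^^^ ·) 28 (lin_xor M) (lin_xor N)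
    (by rw [lin_zero, lin_zero]) (fun a ha => ?_) v hv
  have hc := checkSpan_ok
  simp only [checkSpan, Bool.and_eq_true, List.all_eq_true, List.mem_range, beq_iff_eq,
    decide_eq_true_eq] at hc
  obtain ⟨he, hj⟩ := hc.2 a ha
  rw [← he]
  generalize spanList.getD a [] = l at hj
  induction l with
  | nil => simp [xorPts, lin_zero]
  | cons s t ih =>
    simp only [xorPts, lin_xor]
    rw [ih fun j hjt => hj j (List.mem_cons_of_mem _ hjt)]
    have := h (fp s)
    rw [fp_val (hj s List.mem_cons_self)] at this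
    rw [this]

lemma lin_two_pow : ∀ (l : List ℕ) (i : ℕ), lin l (2 ^ i) = l.getD i 0
  | [], i => by simp [lin]
  | r :: rs, 0 => by simp [lin, lin_zero]
  | r :: rs, i + 1 => by
    simp only [lin, List.getD_cons_succ, pow_succ]
    rw [Nat.mul_mod_left, Nat.mul_div_cancel _ two_pos, lin_two_pow rs i]
    simp

lemma isMat_mulM {A B : ℕ} (hA : IsMat A) (hB : IsMat B) :
    IsMat (mulM A B) ∧ permOf (mulM A B) = permOf A * permOf B := by
  have hr : Repr (permOf A * permOf B) (rowsOf (mulM A B)) := fun x => by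
    rw [Perm.mul_apply, (permOf_spec hA).2, (permOf_spec hB).2, mulM_rows, lin_map]
  have hm : IsMat (mulM A B) := by
    refine ⟨?_, _, mul_mem (permOf_spec hA).1 (permOf_spec hB).1, hr⟩
    rw [mulM_rows]
    rfl
  exact ⟨hm, permOf_eq hm hr⟩

lemma isMat_oneM : IsMat oneM ∧ permOf oneM = 1 := by
  have hr : Repr 1 (rowsOf oneM) := fun x => by rw [lin_oneM _ (pt_lt _)]; rfl
  have hm : IsMat oneM := ⟨by rw [oneM_rows]; rfl, 1, one_mem _, hr⟩
  exact ⟨hm, permOf_eq hm hr⟩

lemma eq_of_permOf {A B : ℕ} (hA : IsMat A) (hB : IsMat B) (h : permOf A = permOf B) : A = B := by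
  rw [← hA.1, ← hB.1]
  refine congrArg packR (List.ext_getElem
    (by rw [(rowsOf_spec A).1, (rowsOf_spec B).1]) fun i h1 h2 => ?_)
  rw [← List.getD_eq_getElem _ 0 h1, ← List.getD_eq_getElem _ 0 h2, ← lin_two_pow, ← lin_two_pow]
  refine lin_eq_of_points (fun x => ?_) _
    (Nat.pow_lt_pow_right (by norm_num) (by rw [(rowsOf_spec A).1] at h1; exact h1))
  rw [← (permOf_spec hA).2 x, ← (permOf_spec hB).2 x, h]

lemma isMat_mem {known : List (ℕ × List ℕ)} {T : ℕ} (h : memW known T = true) : IsMat T := by
  simp only [memW, List.any_eq_true, Bool.and_eq_true, beq_iff_eq, List.all_eq_true,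
    decide_eq_true_eq] at h
  obtain ⟨e, -, ⟨-, hg⟩, rfl⟩ := h
  obtain ⟨h1, h2⟩ := wordP_spec e.2 hg
  refine ⟨?_, _, h1, h2⟩
  cases e.2 with
  | nil => show packR (rowsOf oneM) = oneM; rw [oneM_rows]; rfl
  | cons g w => show packR (rowsOf (mulM _ _)) = mulM _ _; rw [mulM_rows]; rfl

/-- Matrices as elements of the group. -/
noncomputable def matModel (known : List (ℕ × List ℕ)) :
    HS.TModel (matOps known) (Perm (Fin 4060)) autGrp where
  ok := IsMat
  val := permOf
  ok_one := isMat_oneM.1
  val_one := isMat_oneM.2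
  ok_mul _ _ ha hb := (isMat_mulM ha hb).1
  val_mul _ _ ha hb := (isMat_mulM ha hb).2
  inj _ _ := eq_of_permOf
  ok_mem _ h := isMat_mem h
  mem_K _ h := (permOf_spec (isMat_mem h)).1

/-- A separating witness: a vector set closed under the later generators, not under this one. -/
def checkSep (gens : List ℕ) (sep : List (ℕ × List ℕ)) : Bool :=
  (List.range gens.length).all fun i =>
    let p := (sep.getD i (0, [])).1
    let S := (sep.getD i (0, [])).2
    decide (p < 268435456) && S.contains p &&
      !(S.contains (lin (rowsOf (gens.getD i oneM)) p)) &&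
      (List.range' (i + 1) (gens.length - i - 1)).all fun k =>
        S.all fun s => S.contains (lin (rowsOf (gens.getD k oneM)) s)

/-- The action on vectors is a function of the permutation. -/
lemma not_mem_later {gens : List ℕ} {sep : List (ℕ × List ℕ)}
    (hgens : ∀ k < gens.length, IsMat (gens.getD k oneM))
    (h : checkSep gens sep = true) (i : ℕ) (hi : i < gens.length) :
    permOf (gens.getD i oneM) ∉
      later (fun k => permOf (gens.getD k oneM)) gens.length (i + 1) := by
  simp only [checkSep, List.all_eq_true, List.mem_range, Bool.and_eq_true, decide_eq_true_eq,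
    Bool.not_eq_true', List.contains_iff_mem, ← Bool.not_eq_true] at h
  obtain ⟨⟨⟨hp, hpS⟩, hout⟩, hclo⟩ := h i hi
  set p := (sep.getD i (0, [])).1
  set S := (sep.getD i (0, [])).2
  intro hmem
  -- elements of the later subgroup are induced by matrices preserving the set
  have key : ∃ N, IsMat N ∧ permOf N = permOf (gens.getD i oneM) ∧
      ∀ s ∈ S, lin (rowsOf N) s ∈ S ∨ ¬ s < 2 ^ 28 := by
    have hx : permOf (gens.getD i oneM) ∈ Submonoid.closure
        {x | ∃ k, i + 1 ≤ k ∧ k < gens.length ∧ permOf (gens.getD k oneM) = x} := by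
      rw [← Subgroup.closure_toSubmonoid_of_finite]; exact hmem
    generalize permOf (gens.getD i oneM) = x at hx
    induction hx using Submonoid.closure_induction_left with
    | one => exact ⟨oneM, isMat_oneM.1, isMat_oneM.2, fun s hs => by
        by_cases hl : s < 2 ^ 28
        · exact Or.inl (by rw [lin_oneM s hl]; exact hs)
        · exact Or.inr hl⟩
    | mul_left y hy z _ ih =>
      obtain ⟨k, hk1, hk2, rfl⟩ := hy
      obtain ⟨N, hN, hNe, hNS⟩ := ih
      refine ⟨mulM (gens.getD k oneM) N, (isMat_mulM (hgens k hk2) hN).1,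
        by rw [(isMat_mulM (hgens k hk2) hN).2, hNe], fun s hs => ?_⟩
      rcases hNS s hs with h' | h'
      · left
        rw [mulM_rows, lin_map]
        exact hclo k (List.mem_range'_1.2 ⟨hk1, by omega⟩) _ h'
      · exact Or.inr h'
  obtain ⟨N, hN, hNe, hNS⟩ := key
  rw [eq_of_permOf hN (hgens i hi) hNe] at hNS
  exact (hNS p hpS).elim hout fun hlt => hlt (hp.trans_le (by norm_num))

end Cfsg.Agent.H94.Ru
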