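import Cfsg.Agent.H94.Ru.UpperData
import Cfsg.Agent.H94.Ru.Mat

/-!
Membership of the generators of the certificate.
-/

set_option autoImplicit false

namespace Cfsg.Agent.H94.Ru

theorem upperRu_gens : (upperRu.gens.all (matOps ruKnown).mem) = true := by decide +kernel

end Cfsg.Agent.H94.Ru
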