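import Cfsg.Agent.H94.Ru.ChkEqsTri
import Cfsg.Agent.H94.Ru.ChkEqsRel
import Cfsg.Agent.H94.Ru.FormData

/-!
The equations of the certificate and the exponent.
-/

set_option autoImplicit false

namespace Cfsg.Agent.H94.Ru

open Cfsg.Agent.H94.HS (Cert)
open Cfsg.Agent.H94.M22 (addF smulF unitF isZeroF)

theorem upperRu_eqs : upperRu.eqs = ruEqForms.map some := by
  rw [Cert.eqs, upperRu_triEqs, upperRu_relEqs, ruEqForms, List.map_append]

theorem upperRu_some : (upperRu.eqs.all Option.isSome) = true := by
  rw [upperRu_eqs]; simp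

theorem upperRu_eqForms : (upperRu.eqs.map fun o => o.getD []) = ruEqForms := by
  rw [upperRu_eqs, List.map_map]; simp [Function.comp_def]

theorem upperRu_len : upperRu.eqs.length = ruEqForms.length := by
  rw [← upperRu_eqForms, List.length_map]

end Cfsg.Agent.H94.Ru
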