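import Cfsg.Agent.H94.Ru.UpperData
import Cfsg.Agent.H94.Ru.FormData

/-!
The associativity equations of the certificate.
-/

set_option autoImplicit false

namespace Cfsg.Agent.H94.Ru

open Cfsg.Agent.H94.HS (Cert)
open Cfsg.Agent.H94.M22 (addF smulF unitF isZeroF)

theorem upperRu_triEqs : upperRu.tri.map upperRu.triEq = ruTriForms.map some := by decide +kernel

end Cfsg.Agent.H94.Ru
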