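import Cfsg.Agent.H94.Ru.Forms

/-!
The derived forms of the certificate.
-/

set_option autoImplicit false

namespace Cfsg.Agent.H94.Ru

open Cfsg.Agent.H94.HS (Cert)
open Cfsg.Agent.H94.M22 (addF smulF unitF isZeroF)

theorem formOrder : ((upperRu.eOrder.all fun p => decide (p.1 < ruEqForms.length)) &&
    isZeroF (addF (Cert.comb ruEqForms upperRu.eOrder)
      (smulF (-(upperRu.eExp : ℤ)) (unitF upperRu.e)))) = true := by decide +kernel

theorem formsAll : (List.range 91).all formRow = true := by decide +kernel

end Cfsg.Agent.H94.Ru
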