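import Cfsg.Agent.H94.Ru.ChkEqs
import Cfsg.Agent.H94.Ru.ChkFormRows

/-!
Every later tail is a multiple of the generator.
-/

set_option autoImplicit false

namespace Cfsg.Agent.H94.Ru

open Cfsg.Agent.H94.HS (Cert)
open Cfsg.Agent.H94.M22 (addF smulF unitF isZeroF)

theorem upperRu_count : upperRu.vars.length - upperRu.nb = 91 := by decide +kernel

theorem upperRu_Forms : upperRu.checkForms = true := by
  have ho := formOrder
  rw [Bool.and_eq_true, ← upperRu_len, ← upperRu_eqForms] at ho
  simp only [Cert.checkForms, Bool.and_eq_true]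
  refine ⟨⟨⟨upperRu_some, ho.1⟩, ho.2⟩, List.all_eq_true.2 fun v hv => ?_⟩
  rw [List.mem_range, upperRu_count] at hv
  have h := List.all_eq_true.1 formsAll v (List.mem_range.2 hv)
  rw [formRow, ← upperRu_len, ← upperRu_eqForms, Bool.and_eq_true] at h
  rw [Bool.and_eq_true]
  exact h

end Cfsg.Agent.H94.Ru
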