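import Cfsg.Agent.H94.Ru.UpperData
import Cfsg.Agent.H94.Ru.Mat

/-!
The conjugation identities of the certificate.
-/

set_option autoImplicit false

namespace Cfsg.Agent.H94.Ru

theorem upperRu_conjs : (upperRu.conjs.all (matOps ruKnown).mem) = true := by decide +kernel

theorem upperRu_pairs : (upperRu.pairs.all fun p => decide (p.1 < upperRu.conjs.length) &&
    mulM (upperRu.conjs.getD p.1 0) (upperRu.elT (matOps ruKnown) p.2.1) ==
      mulM (upperRu.elT (matOps ruKnown) p.2.2) (upperRu.conjs.getD p.1 0)) = true := by
  decide +kernel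

end Cfsg.Agent.H94.Ru
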