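import Cfsg.Agent.H94.Ru.UpperData
import Cfsg.Agent.H94.Ru.Mat

/-!
One row of the rules of the certificate.
-/

set_option autoImplicit false

namespace Cfsg.Agent.H94.Ru

/-- The rules of one generator. -/
noncomputable def ruleRow (j : ℕ) : Bool :=
  upperRu.ruleOK (0, j, 0) && decide ((upperRu.R.sq j).1 < 2 ^ upperRu.n) &&
    mulM (upperRu.gen (matOps ruKnown) j) (upperRu.gen (matOps ruKnown) j) ==
      upperRu.elT (matOps ruKnown) (upperRu.R.sq j).1 &&
    (List.range j).all fun i => upperRu.ruleOK (1, j, i) &&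
      decide ((upperRu.R.cm j i).1 < 2 ^ upperRu.n) &&
      (upperRu.R.cm j i).1 % 2 ^ upperRu.nb == 0 && upperRu.okF (upperRu.R.cm j i).2 &&
      mulM (upperRu.gen (matOps ruKnown) j) (upperRu.gen (matOps ruKnown) i) ==
        mulM (mulM (upperRu.gen (matOps ruKnown) i) (upperRu.gen (matOps ruKnown) j))
          (upperRu.elT (matOps ruKnown) (upperRu.R.cm j i).1)

end Cfsg.Agent.H94.Ru
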