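import Cfsg.Agent.H94.Ru.UpperData
import Cfsg.Agent.H94.Ru.Rules

/-!
The rules of the certificate, generators 0 to 8.
-/

set_option autoImplicit false

namespace Cfsg.Agent.H94.Ru

theorem rulesA : (List.range' 0 9).all ruleRow = true := by decide +kernel

end Cfsg.Agent.H94.Ru
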