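import Cfsg.Agent.H94.Ru.ChkElems
import Cfsg.Agent.H94.Ru.ChkPairs
import Cfsg.Agent.H94.Ru.ChkRulesA
import Cfsg.Agent.H94.Ru.ChkRulesB

/-!
The table identities of the certificate for the Rudvalis group.
-/

set_option autoImplicit false

namespace Cfsg.Agent.H94.Ru

theorem upperRu_lengths : (upperRu.gens.length == upperRu.n) = true ∧
    (upperRu.nb + upperRu.defs.length == upperRu.n) = true := by decide +kernel

theorem upperRu_defs : ((List.range upperRu.defs.length).all fun d =>
    (upperRu.R.cm (upperRu.defs.getD d (0, 0)).1 (upperRu.defs.getD d (0, 0)).2).1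
        == 2 ^ (upperRu.nb + d) &&
      decide ((upperRu.defs.getD d (0, 0)).1 < upperRu.nb + d) &&
      decide ((upperRu.defs.getD d (0, 0)).2 < (upperRu.defs.getD d (0, 0)).1)) = true := by
  decide +kernel

theorem upperRu_n : upperRu.n = 14 := rfl

theorem upperRu_rules : ((List.range upperRu.n).all ruleRow) = true := by
  refine List.all_eq_true.2 fun j hj => ?_
  rw [List.mem_range, upperRu_n] at hj
  rcases Nat.lt_or_ge j 9 with h | h
  · exact List.all_eq_true.1 rulesA j (List.mem_range'_1.2 ⟨Nat.zero_le j, by omega⟩)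
  · exact List.all_eq_true.1 rulesB j (List.mem_range'_1.2 ⟨h, by omega⟩)

theorem upperRu_Tables : upperRu.checkTables (matOps ruKnown) = true := by
  simp only [HS.Cert.checkTables, Bool.and_eq_true]
  exact ⟨⟨⟨⟨⟨⟨upperRu_lengths.1, upperRu_lengths.2⟩, upperRu_gens⟩, upperRu_conjs⟩, upperRu_pairs⟩,
    upperRu_defs⟩, upperRu_rules⟩

end Cfsg.Agent.H94.Ru
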