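import Cfsg.Agent.H94.HS.CertSound
import Cfsg.Agent.H94.Ru.Pc

/-!
Soundness of the 2-part certificate for large Sylow subgroups: closure and distinctness of the
normal forms follow from power-commutator rules and separating witnesses, without enumeration.
-/

set_option autoImplicit false

namespace Cfsg.Agent.H94.HS

open Cfsg
open Cfsg.Agent.H94.M22 (ZRules ZModel addF smulF unitF isZeroF valAt valAt_addF valAt_smulF
  valAt_unitF valAt_of_isZeroF mulListZ mulGenZ)
open Cfsg.Agent.H94.Mult (bitsOf comm_mem_of_closure)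
open Cfsg.Agent.H94
open scoped commutatorElement

namespace Cert

variable (C : Cert)

/-- The rules are power-commutator rules. -/
def checkPc : Bool :=
  (List.range C.n).all fun j => (C.R.sq j).1 % 2 ^ (j + 1) == 0 &&
    (decide (j < C.nb) || C.okF (C.R.sq j).2) &&
    (List.range j).all fun i => (C.R.cm j i).1 % 2 ^ (i + 1) == 0

variable {O : TOps} {P : Type} [Group P] [Finite P] {K : Subgroup P} (Mo : TModel O P K)
variable {Γ : Type} [Group Γ] [Finite Γ] (σ : Γ →* ↥K)

include Mo in
/-- A central element whose powers exhaust the 2-part. -/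
theorem exists_gen_two_pc (ht : C.checkTables O = true) (hpc : C.checkPc = true)
    (hsep : ∀ i < C.n, Mo.val (C.gen O i) ∉
      Ru.later (fun k => Mo.val (C.gen O k)) C.n (i + 1)) (hf : C.checkForms = true) {r : ℕ} (hr : Odd r)
    (hK : Nat.card ↥K = 2 ^ C.n * r) (hσ : IsStemExtension σ) :
    ∃ e ∈ σ.ker, e ^ C.eExp = 1 ∧
      ∀ z ∈ σ.ker, ∀ j : ℕ, z ^ 2 ^ j = 1 → z ∈ Subgroup.zpowers e := by
  classical
  set ρ : Γ →* P := K.subtype.comp σ with hρdef
  have hker : ∀ x, ρ x = 1 ↔ x ∈ σ.ker := fun x => by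
    rw [MonoidHom.mem_ker]
    exact ⟨fun h => Subtype.ext h, fun h => by simp [hρdef, h]⟩
  have hcen : ∀ x, ρ x = 1 → ∀ y : Γ, y * x = x * y := fun x hx y =>
    Subgroup.mem_center_iff.1 (hσ.2.1 ((hker x).1 hx)) y
  have hsurj : ∀ g ∈ K, ∃ x, ρ x = g := fun g hg => by
    obtain ⟨x, hx⟩ := hσ.1 ⟨g, hg⟩
    exact ⟨x, by simp [hρdef, hx]⟩
  simp only [checkTables, Bool.and_eq_true, List.all_eq_true, decide_eq_true_eq, beq_iff_eq,
    List.mem_range] at ht
  obtain ⟨⟨⟨⟨⟨⟨hgl, hnd⟩, hgens⟩, hconjs⟩, hpairs⟩, hdefs⟩, hrules⟩ := ht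
  have hgen : ∀ k < C.n, O.mem (C.gen O k) = true := fun k hk => by
    refine hgens _ ?_
    rw [Cert.gen, List.getD_eq_getElem _ _ (hgl ▸ hk)]
    exact List.getElem_mem _
  have helT : ∀ m, Mo.ok (C.elT O m) ∧
      Mo.val (C.elT O m) = ((bitsOf C.n m).map fun k => Mo.val (C.gen O k)).prod := by
    intro m
    have key : ∀ (l : List ℕ), (∀ k ∈ l, k < C.n) → ∀ acc, Mo.ok acc →
        Mo.ok (l.foldl (fun acc k => O.mul acc (C.gen O k)) acc) ∧
        Mo.val (l.foldl (fun acc k => O.mul acc (C.gen O k)) acc)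
          = Mo.val acc * (l.map fun k => Mo.val (C.gen O k)).prod := by
      intro l
      induction l with
      | nil => intro _ acc ha; exact ⟨ha, by simp⟩
      | cons k t ih =>
        intro hl acc ha
        have hk := Mo.ok_mem _ (hgen k (hl k (by simp)))
        obtain ⟨h3, h4⟩ := ih (fun j hj => hl j (List.mem_cons_of_mem _ hj)) _
          (Mo.ok_mul _ _ ha hk)
        rw [List.foldl_cons]
        exact ⟨h3, h4.trans (by rw [Mo.val_mul _ _ ha hk, List.map_cons, List.prod_cons,
          mul_assoc])⟩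
    rw [elT]
    obtain ⟨h1, h2⟩ := key (bitsOf C.n m) (fun k hk => bitsOf_lt hk) O.one Mo.ok_one
    exact ⟨h1, h2.trans (by rw [Mo.val_one, one_mul])⟩
  -- lifts, the later ones defined as commutators
  have hex : ∀ k, ∃ x, k < C.n → ρ x = Mo.val (C.gen O k) := fun k => by
    by_cases hk : k < C.n
    · obtain ⟨x, hx⟩ := hsurj _ (Mo.mem_K _ (hgen k hk))
      exact ⟨x, fun _ => hx⟩
    · exact ⟨1, fun h => absurd h hk⟩
  choose s0 hs0 using hex
  have hcmperm : ∀ i j, i < j → j < C.n → Mo.val (C.gen O j) * Mo.val (C.gen O i) =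
      Mo.val (C.gen O i) * Mo.val (C.gen O j) * Mo.val (C.elT O (C.R.cm j i).1) := by
    intro i j hij hj
    have h := congrArg Mo.val ((hrules j hj).2 i hij).2
    have vj := Mo.ok_mem _ (hgen j hj)
    have vi := Mo.ok_mem _ (hgen i (hij.trans hj))
    rwa [Mo.val_mul _ _ vj vi, Mo.val_mul _ _ (Mo.ok_mul _ _ vi vj) (helT _).1,
      Mo.val_mul _ _ vi vj] at h
  have hdefperm : ∀ d < C.defs.length,
      Mo.val (C.elT O (C.R.cm (C.defs.getD d (0, 0)).1 (C.defs.getD d (0, 0)).2).1) =
        Mo.val (C.gen O (C.nb + d)) := fun d hd => by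
    rw [(hdefs d hd).1.1, (helT _).2,
      Cfsg.Agent.H94.Mult.Model.bitsOf_split (n := C.n) (j := C.nb + d) (by omega) (by simp)
        (fun k hk _ => by rw [Nat.testBit_two_pow]; simp [hk.ne]), Nat.xor_self]
    simp [bitsOf]
  obtain ⟨G, hG1, hG2⟩ : ∃ G : ℕ → Γ, (∀ k < C.n, ρ (G k) = Mo.val (C.gen O k)) ∧
      ∀ d < C.defs.length, G (C.defs.getD d (0, 0)).1 * G (C.defs.getD d (0, 0)).2 =
        G (C.defs.getD d (0, 0)).2 * G (C.defs.getD d (0, 0)).1 * G (C.nb + d) := by
    suffices ∀ f ≤ C.defs.length, ∃ G : ℕ → Γ, (∀ k < C.n, ρ (G k) = Mo.val (C.gen O k)) ∧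
        ∀ d < f, G (C.defs.getD d (0, 0)).1 * G (C.defs.getD d (0, 0)).2 =
          G (C.defs.getD d (0, 0)).2 * G (C.defs.getD d (0, 0)).1 * G (C.nb + d) from this _ le_rfl
    intro f
    induction f with
    | zero => intro _; exact ⟨s0, hs0, fun d hd => absurd hd (Nat.not_lt_zero d)⟩
    | succ f ih =>
      intro hf'
      obtain ⟨G, h1, h2⟩ := ih (Nat.le_of_succ_le hf')
      obtain ⟨⟨-, hj⟩, hi⟩ := hdefs f hf'
      have hperm := hdefperm f hf'
      generalize hde : C.defs.getD f (0, 0) = p at hj hi hperm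
      obtain ⟨j, i⟩ := p
      dsimp only at hj hi hperm
      have hkn : C.nb + f < C.n := by omega
      let x := (G i * G j)⁻¹ * (G j * G i)
      have hx : ρ x = Mo.val (C.gen O (C.nb + f)) := by
        simp only [x, map_mul, map_inv, h1 j (by omega), h1 i (by omega)]
        rw [hcmperm i j hi (by omega), hperm, inv_mul_cancel_left]
      refine ⟨Function.update G (C.nb + f) x, fun k hk => ?_, fun d hd' => ?_⟩
      · by_cases hkf : k = C.nb + f
        · subst hkf; rw [Function.update_self, hx]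
        · rw [Function.update_of_ne hkf, h1 k hk]
      rcases Nat.lt_succ_iff_lt_or_eq.1 hd' with hlt | rfl
      · obtain ⟨⟨-, hj'⟩, hi'⟩ := hdefs d (by omega)
        rw [Function.update_of_ne (show (C.defs.getD d (0, 0)).1 ≠ C.nb + f by omega),
          Function.update_of_ne (show (C.defs.getD d (0, 0)).2 ≠ C.nb + f by omega),
          Function.update_of_ne (show C.nb + d ≠ C.nb + f by omega)]
        exact h2 d hlt
      · rw [hde]
        dsimp only
        rw [Function.update_of_ne (show j ≠ C.nb + d by omega),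
          Function.update_of_ne (show i ≠ C.nb + d by omega), Function.update_self]
        exact (mul_inv_cancel_left _ _).symm
  let NF : ℕ → Γ := fun w => ((bitsOf C.n w).map G).prod
  have hρNF : ∀ w, ρ (NF w) = Mo.val (C.elT O w) := fun w => by
    rw [(helT w).2]
    simp only [NF, map_list_prod, List.map_map]
    exact congrArg List.prod (List.map_congr_left fun k hk => hG1 k (bitsOf_lt hk))
  -- the kernel as an abelian group
  letI : CommGroup ↥σ.ker :=
    { (inferInstance : Group ↥σ.ker) with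
      mul_comm := fun a b => Subtype.ext (hcen a.1 ((hker a.1).2 a.2) b.1).symm }
  let toK : Γ → Additive ↥σ.ker := fun x =>
    if h : x ∈ σ.ker then Additive.ofMul ⟨x, h⟩ else 0
  let disc : ℕ × ℕ × ℕ → Γ := fun r =>
    if r.1 = 0 then (NF (C.R.sq r.2.1).1)⁻¹ * (G r.2.1 * G r.2.1)
    else (G r.2.2 * G r.2.1 * NF (C.R.cm r.2.1 r.2.2).1)⁻¹ * (G r.2.1 * G r.2.2)
  have hexc : ∀ k, ∃ g, k < C.conjs.length → ρ g = Mo.val (C.conjs.getD k 0) := fun k => by
    by_cases hk : k < C.conjs.length
    · obtain ⟨g, hg⟩ := hsurj _ (Mo.mem_K _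
        (hconjs (C.conjs.getD k 0) (by rw [List.getD_eq_getElem _ _ hk]; exact List.getElem_mem _)))
      exact ⟨g, fun _ => hg⟩
    · exact ⟨1, fun h => absurd h hk⟩
  choose cj hcj using hexc
  let gp : ℕ → Γ := fun k => cj (C.pairs.getD k (0, 0, 0)).1
  let U : ℕ → Γ := fun k => NF (C.pairs.getD k (0, 0, 0)).2.1
  let Wt : ℕ → Γ := fun k => NF (C.pairs.getD k (0, 0, 0)).2.2
  let pd : ℕ → Γ := fun k => (Wt k)⁻¹ * (gp k * U k * (gp k)⁻¹)
  let a : ℕ → Additive ↥σ.ker := fun v =>
    if v < C.vars.length then toK (disc (C.vars.getD v (0, 0, 0))) else toK (pd (v - C.vars.length))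
  let V : List ℤ → Γ := fun f => ((valAt a f 0).toMul : ↥σ.ker)
  have hVmem : ∀ f, V f ∈ σ.ker := fun f => ((valAt a f 0).toMul).2
  have hVρ : ∀ f, ρ (V f) = 1 := fun f => (hker _).2 (hVmem f)
  have hVunit : ∀ v x, a v = toK x → ρ x = 1 → V (unitF v) = x := fun v x hv hx => by
    simp only [V, valAt_unitF, Nat.zero_add, hv, toK, dif_pos ((hker x).1 hx), toMul_ofMul]
  have hVzero : ∀ f, isZeroF f = true → V f = 1 := fun f hf' => by
    simp only [V, valAt_of_isZeroF a f 0 hf', toMul_zero, Subgroup.coe_one]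
  have hVnil : V [] = 1 := hVzero [] rfl
  have hρsq : ∀ j < C.n, ρ (disc (0, j, 0)) = 1 := fun j hj => by
    simp only [disc, if_pos, map_mul, map_inv, hG1 j hj, hρNF]
    have h := (hrules j hj).1.2
    have h' := congrArg Mo.val h
    rw [Mo.val_mul _ _ (Mo.ok_mem _ (hgen j hj)) (Mo.ok_mem _ (hgen j hj))] at h'
    rw [h', inv_mul_cancel]
  have hρcm : ∀ i j, i < j → j < C.n → ρ (disc (1, j, i)) = 1 := fun i j hij hj => by
    simp only [disc, Nat.one_ne_zero, if_false, map_mul, map_inv, hG1 j hj, hG1 i (hij.trans hj),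
      hρNF]
    rw [hcmperm i j hij hj, inv_mul_cancel]
  have hrule : ∀ r, C.ruleOK r = true → ρ (disc r) = 1 → V (C.formOf r) = disc r := by
    intro r hok hρr
    simp only [ruleOK, Bool.or_eq_true, Bool.and_eq_true, beq_iff_eq, List.contains_iff_mem,
      List.any_eq_true, List.mem_range] at hok
    rcases hok with ⟨⟨h1, h0⟩, hd⟩ | ⟨v, hv, hfv, hvr⟩
    · rw [h0, hVnil]
      obtain ⟨t, j, i⟩ := r
      dsimp only at h1 hd
      subst h1
      obtain ⟨d, hdl, hde⟩ := List.getElem_of_mem hd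
      have hgd : C.defs.getD d (0, 0) = (j, i) := by rw [List.getD_eq_getElem _ _ hdl, hde]
      have e1 := hG2 d hdl
      obtain ⟨⟨hw, -⟩, -⟩ := hdefs d hdl
      rw [hgd] at e1 hw
      dsimp only at e1 hw
      have hnfd : NF (C.R.cm j i).1 = G (C.nb + d) := by
        rw [hw]
        show ((bitsOf C.n (2 ^ (C.nb + d))).map G).prod = _
        rw [Cfsg.Agent.H94.Mult.Model.bitsOf_split (n := C.n) (j := C.nb + d) (by omega) (by simp)
          (fun k hk _ => by rw [Nat.testBit_two_pow]; simp [hk.ne]), Nat.xor_self]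
        simp [bitsOf]
      simp only [disc, Nat.one_ne_zero, if_false]
      rw [hnfd, e1, inv_mul_cancel]
    · rw [hfv]
      refine hVunit v _ ?_ hρr
      simp only [a, if_pos hv, hvr]
  let M : ZModel C.R Γ :=
    { G := G
      V := V
      V_zero := hVnil
      V_add := fun f g => by simp only [V, valAt_addF, toMul_add, Subgroup.coe_mul]
      V_central := fun f x => hcen _ (hVρ f) x
      sq_rule := fun i hi => by
        have h := hrule _ (hrules i hi).1.1.1 (hρsq i hi)
        simp only [disc, if_pos, formOf] at h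
        rw [h]
        exact (mul_inv_cancel_left _ _).symm
      cm_rule := fun i j hij hj => by
        have h := hrule _ ((hrules j hj).2 i hij).1.1.1.1 (hρcm i j hij hj)
        simp only [disc, Nat.one_ne_zero, if_false, formOf] at h
        rw [h]
        exact (mul_inv_cancel_left _ _).symm }
  have hmg := fun m i r' f (h : mulGenZ C.R fuel m i = some (r', f)) =>
    M.mulGenZ_spec fuel m i r' f h
  have hev : ∀ ks r' f, C.ev ks = some (r', f) → (ks.map G).prod = M.nf r' * M.V f :=
    fun ks r' f h => by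
      have := M.mulListZ_spec hmg ks 0 r' f h
      rwa [M.nf_zero, one_mul] at this
  have hV0 : ∀ f, V f = 1 → valAt a f 0 = 0 := fun f h =>
    Additive.toMul.injective (Subtype.ext h)
  have hVeq : ∀ f g, V f = V g → valAt a f 0 = valAt a g 0 := fun f g h =>
    Additive.toMul.injective (Subtype.ext h)
  -- the equations hold
  have htri : ∀ x e, C.triEq x = some e → valAt a e 0 = 0 := by
    rintro ⟨k, j, i⟩ e h
    simp only [triEq] at h
    split at h
    · next r₀ f₁ p g₁ h₁ h₂ =>
      split at h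
      · next r' g₂ h₃ =>
        split at h
        · next hab =>
          simp only [Option.some.injEq] at h
          rw [beq_iff_eq] at hab
          subst hab
          subst h
          have e1 := hev _ _ _ h₁
          have e2 := hev _ _ _ h₂
          have e3 := hev _ _ _ h₃
          rw [List.map_cons, List.prod_cons] at e3
          change G k * M.nf p = _ at e3
          rw [List.map_cons, List.prod_cons, e2, ← mul_assoc, e3, mul_assoc, ← M.V_add,
            mul_left_cancel_iff] at e1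
          have e4 := hVeq _ _ e1
          simp only [valAt_addF, valAt_smulF, neg_smul, one_smul] at e4 ⊢
          rw [← e4]
          abel
        · simp at h
      · simp at h
    · simp at h
  have hU : ∀ gi l m f r' f', C.evU gi l (m, f) = some (r', f') →
      (∀ k ∈ l, k < C.pairs.length ∧ (C.pairs.getD k (0, 0, 0)).1 = gi) ∧
      M.nf m * M.V f * (l.map U).prod = M.nf r' * M.V f' := by
    intro gi l
    induction l with
    | nil =>
      intro m f r' f' h
      simp only [evU, Option.some.injEq, Prod.mk.injEq] at h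
      obtain ⟨rfl, rfl⟩ := h
      simp
    | cons k t ih =>
      intro m f r' f' h
      simp only [evU] at h
      split at h
      · next hk =>
        rw [Bool.and_eq_true, decide_eq_true_eq, beq_iff_eq] at hk
        split at h
        · next r₁ f₁ hst =>
          obtain ⟨h1, h2⟩ := ih _ _ _ _ h
          refine ⟨fun q hq => ?_, ?_⟩
          · rcases List.mem_cons.1 hq with rfl | hq
            exacts [⟨hk.2, hk.1⟩, h1 q hq]
          · have e1 : M.nf m * U k = M.nf r₁ * M.V f₁ := M.mulListZ_spec hmg _ _ _ _ hst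
            rw [List.map_cons, List.prod_cons, ← mul_assoc, ← h2]
            congr 1
            rw [mul_assoc, ← M.V_central f (U k), ← mul_assoc, e1, mul_assoc, M.V_central f (M.V f₁),
              ← M.V_add]
        · simp at h
      · simp at h
  have hpd : ∀ k < C.pairs.length, ρ (pd k) = 1 := fun k hk => by
    have h := hpairs (C.pairs.getD k (0, 0, 0))
      (by rw [List.getD_eq_getElem _ _ hk]; exact List.getElem_mem _)
    obtain ⟨hci, hc⟩ := h
    have hok := Mo.ok_mem _ (hconjs (C.conjs.getD (C.pairs.getD k (0, 0, 0)).1 0)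
      (by rw [List.getD_eq_getElem _ _ hci]; exact List.getElem_mem _))
    have hc := congrArg Mo.val hc
    rw [Mo.val_mul _ _ hok (helT _).1, Mo.val_mul _ _ (helT _).1 hok, ← mul_inv_eq_iff_eq_mul] at hc
    simp only [pd, gp, U, Wt, map_mul, map_inv, hρNF, hcj _ hci, hc, inv_mul_cancel]
  have hWe : ∀ l m f r' f', (∀ k ∈ l, k < C.pairs.length) → C.evW l (m, f) = some (r', f') →
      M.nf m * M.V f * (l.map fun k => gp k * U k * (gp k)⁻¹).prod = M.nf r' * M.V f' := by
    intro l
    induction l with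
    | nil =>
      intro m f r' f' _ h
      simp only [evW, Option.some.injEq, Prod.mk.injEq] at h
      obtain ⟨rfl, rfl⟩ := h
      simp
    | cons k t ih =>
      intro m f r' f' hl h
      simp only [evW] at h
      split at h
      · next r₁ f₁ hst =>
        have hk := hl k (by simp)
        have e1 : M.nf m * Wt k = M.nf r₁ * M.V f₁ := M.mulListZ_spec hmg _ _ _ _ hst
        have e2 := ih _ _ _ _ (fun q hq => hl q (List.mem_cons_of_mem _ hq)) h
        have hx : M.V (unitF (C.vars.length + k)) = pd k := hVunit _ _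
          (by simp only [a, if_neg (show ¬ C.vars.length + k < C.vars.length by omega),
            Nat.add_sub_cancel_left]) (hpd k hk)
        have e3 : gp k * U k * (gp k)⁻¹ = Wt k * M.V (unitF (C.vars.length + k)) := by
          rw [hx]; exact (mul_inv_cancel_left _ _).symm
        rw [List.map_cons, List.prod_cons, ← mul_assoc, ← e2]
        congr 1
        rw [e3, M.V_add, M.V_add, ← mul_assoc (M.nf m * M.V f), mul_assoc (M.nf m) (M.V f),
          ← M.V_central f (Wt k), ← mul_assoc (M.nf m), e1, ← mul_assoc (M.nf r₁),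
          ← mul_assoc (M.nf r₁), mul_assoc (M.nf r₁) (M.V f₁), M.V_central f (M.V f₁),
          ← mul_assoc (M.nf r₁)]
      · simp at h
  have hrel : ∀ x e, C.relEq x = some e → valAt a e 0 = 0 := by
    rintro ⟨gi, l₁, l₂⟩ e h
    simp only [relEq] at h
    split at h
    · next hgi =>
      rw [decide_eq_true_eq] at hgi
      split at h
      · next A f A' f' B g B' g' hu₁ hu₂ hw₁ hw₂ =>
        split at h
        · next hab =>
          rw [Bool.and_eq_true, beq_iff_eq, beq_iff_eq] at hab
          obtain ⟨rfl, rfl⟩ := hab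
          simp only [Option.some.injEq] at h
          subst h
          obtain ⟨hl₁, eu₁⟩ := hU _ _ _ _ _ _ hu₁
          obtain ⟨hl₂, eu₂⟩ := hU _ _ _ _ _ _ hu₂
          have ew₁ := hWe _ _ _ _ _ (fun k hk => (hl₁ k hk).1) hw₁
          have ew₂ := hWe _ _ _ _ _ (fun k hk => (hl₂ k hk).1) hw₂
          rw [M.nf_zero, M.V_zero, one_mul, one_mul] at eu₁ eu₂ ew₁ ew₂
          have hconj : ∀ l : List ℕ,
              (∀ k ∈ l, k < C.pairs.length ∧ (C.pairs.getD k (0, 0, 0)).1 = gi) →
              (l.map fun k => gp k * U k * (gp k)⁻¹).prod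
                = cj gi * (l.map U).prod * (cj gi)⁻¹ := by
            intro l hl
            rw [← MulAut.conj_apply, map_list_prod, List.map_map]
            refine congrArg List.prod (List.map_congr_left fun k hk => ?_)
            simp only [gp, (hl k hk).2, Function.comp, MulAut.conj_apply]
          rw [hconj _ hl₁, eu₁] at ew₁
          rw [hconj _ hl₂, eu₂] at ew₂
          have hsplit : ∀ q, cj gi * (M.nf A * M.V q) * (cj gi)⁻¹
              = cj gi * M.nf A * (cj gi)⁻¹ * M.V q := fun q => by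
            rw [← mul_assoc, mul_assoc, ← M.V_central q, ← mul_assoc]
          rw [hsplit] at ew₁ ew₂
          set Y := cj gi * M.nf A * (cj gi)⁻¹
          have e3 : M.V (addF f g') = M.V (addF f' g) := by
            have : Y * M.V f * M.V g' = Y * M.V f' * M.V g := by
              rw [ew₁, ew₂, mul_assoc, mul_assoc, M.V_central g (M.V g')]
            rw [M.V_add, M.V_add]
            exact mul_left_cancel (a := Y) (by rw [← mul_assoc, ← mul_assoc]; exact this)
          have e4 := hVeq _ _ e3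
          simp only [valAt_addF] at e4
          simp only [valAt_addF, valAt_smulF, neg_smul, one_smul]
          rw [← sub_eq_zero] at e4
          rw [← e4]
          abel
        · simp at h
      · simp at h
    · simp at h
  simp only [checkForms, Bool.and_eq_true, List.all_eq_true, decide_eq_true_eq, List.mem_range]
    at hf
  obtain ⟨⟨⟨hsome, heO⟩, hfour⟩, hproofs⟩ := hf
  have hcomb : ∀ l : List (ℕ × ℤ), (∀ p ∈ l, p.1 < C.eqs.length) →
      valAt a (comb (C.eqs.map fun o => o.getD []) l) 0 = 0 := by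
    intro l hl
    have key : ∀ acc, valAt a acc 0 = 0 → valAt a (l.foldl (fun acc p =>
        addF acc (smulF p.2 ((C.eqs.map fun o => o.getD []).getD p.1 []))) acc) 0 = 0 := by
      induction l with
      | nil => exact fun acc h => h
      | cons p t ih =>
        intro acc hacc
        rw [List.foldl_cons]
        refine ih (fun q hq => hl q (List.mem_cons_of_mem _ hq)) _ ?_
        rw [valAt_addF, hacc, zero_add, valAt_smulF]
        have hp := hl p (by simp)
        have hlen : p.1 < (C.eqs.map fun o => o.getD []).length := by rwa [List.length_map]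
        rw [List.getD_eq_getElem _ _ hlen, List.getElem_map]
        have hm := List.getElem_mem hp
        obtain ⟨x, hx⟩ := Option.isSome_iff_exists.1 (hsome _ hm)
        have hxz : valAt a x 0 = 0 := by
          rw [hx] at hm
          simp only [eqs, List.mem_append, List.mem_map] at hm
          rcases hm with ⟨y, -, hy⟩ | ⟨y, -, hy⟩
          exacts [htri y x hy, hrel y x hy]
        rw [hx, Option.getD_some, hxz, smul_zero]
    exact key [] rfl
  set eA : Additive ↥σ.ker := a C.e with heA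
  let S : AddSubgroup (Additive ↥σ.ker) := AddSubgroup.zmultiples eA
  have hfour' : (C.eExp : ℤ) • eA = 0 := by
    have h := valAt_of_isZeroF a _ 0 hfour
    rw [valAt_addF, hcomb _ heO, zero_add, valAt_smulF, valAt_unitF, Nat.zero_add, neg_smul,
      neg_eq_zero] at h
    exact h
  have hvar : ∀ v, C.nb ≤ v → v < C.vars.length → a v ∈ S := fun v h1 h2 => by
    obtain ⟨hl, hz⟩ := hproofs (v - C.nb) (by omega)
    have h := valAt_of_isZeroF a _ 0 hz
    simp only [valAt_addF, hcomb _ hl, valAt_smulF, valAt_unitF, Nat.zero_add,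
      Nat.add_sub_cancel' h1, neg_smul, one_smul] at h
    rw [zero_add, neg_add_eq_zero] at h
    rw [h]
    exact AddSubgroup.zsmul_mem _ (AddSubgroup.mem_zmultiples eA) _
  have hokS : ∀ f, C.okF f = true → V f ∈ Subgroup.zpowers ((eA.toMul : ↥σ.ker) : Γ) := by
    intro f hok
    simp only [okF, List.all_eq_true, List.mem_range, Bool.or_eq_true, Bool.and_eq_true,
      decide_eq_true_eq, beq_iff_eq] at hok
    have hmem := valAt_mem S a f 0 fun i hi => by
      rcases hok i hi with h | h
      · exact .inr (by rw [Nat.zero_add]; exact hvar i h.1 h.2)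
      · exact .inl h
    obtain ⟨k, hk⟩ := AddSubgroup.mem_zmultiples_iff.1 hmem
    refine ⟨k, ?_⟩
    show _ = (((valAt a f 0).toMul : ↥σ.ker) : Γ)
    rw [← hk, toMul_zsmul, Subgroup.coe_zpow]
  set eΓ : Γ := ((eA.toMul : ↥σ.ker) : Γ) with heΓ
  have heker : eΓ ∈ σ.ker := (eA.toMul).2
  have heρ : ρ eΓ = 1 := (hker _).2 heker
  refine ⟨eΓ, heker, ?_, ?_⟩
  · have h := congrArg (fun x : Additive ↥σ.ker => ((x.toMul : ↥σ.ker) : Γ)) hfour'
    simp only [toMul_zsmul, Subgroup.coe_zpow, toMul_zero, Subgroup.coe_one] at h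
    rw [zpow_natCast] at h
    exact h
  -- the Sylow subgroup
  simp only [checkPc, Bool.and_eq_true, Bool.or_eq_true, decide_eq_true_eq, beq_iff_eq,
    List.all_eq_true, List.mem_range] at hpc
  let gv : ℕ → P := fun k => Mo.val (C.gen O k)
  have hsqP : ∀ i < C.n, 0 ≤ i → ∃ m, m % 2 ^ (i + 1) = 0 ∧
      gv i * gv i = Ru.nfp gv C.n m := fun i hi _ => by
    refine ⟨(C.R.sq i).1, (hpc i hi).1.1, ?_⟩
    have h := congrArg Mo.val (hrules i hi).1.2
    have vi := Mo.ok_mem _ (hgen i hi)
    rw [Mo.val_mul _ _ vi vi, (helT _).2] at h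
    exact h
  have hcmP : ∀ i j, 0 ≤ i → i < j → j < C.n → ∃ m, m % 2 ^ (i + 1) = 0 ∧
      gv j * gv i = gv i * gv j * Ru.nfp gv C.n m := fun i j _ hij hj =>
    ⟨(C.R.cm j i).1, (hpc j hj).2 i hij, by rw [hcmperm i j hij hj, (helT _).2]; rfl⟩
  have hbij := Ru.nfp_bijective hsqP hcmP rfl hsep
  let Qp : Subgroup (P) := Ru.later gv C.n 0
  have hgQ : ∀ k < C.n, gv k ∈ Qp := fun k hk =>
    Subgroup.subset_closure ⟨k, Nat.zero_le k, hk, rfl⟩
  have hnfρ : ∀ m, ρ (M.nf m) = Mo.val (C.elT O m) := hρNF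
  have hnfv : ∀ m, Ru.nfp gv C.n m = Mo.val (C.elT O m) := fun m => (helT m).2.symm
  have hQnf : ∀ x ∈ Qp, ∃ m < 2 ^ C.n, ρ (M.nf m) = x := fun x hx => by
    obtain ⟨m, hm, -, e⟩ := Ru.exists_nfp hsqP hcmP C.n 0 (Nat.zero_add _) le_rfl x hx
    exact ⟨m, hm, by rw [hnfρ, ← hnfv, e]⟩
  have hnfQ : ∀ m, ρ (M.nf m) ∈ Qp := fun m => by
    rw [hnfρ, ← hnfv]
    exact Ru.nfp_mem (Nat.mod_one _)
  have hcardQ : Nat.card Qp = 2 ^ C.n :=
    (Nat.card_congr (Equiv.ofBijective _ hbij)).symm.trans (Nat.card_fin _)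
  have hQK : Qp ≤ K := by
    show Ru.later gv C.n 0 ≤ K
    rw [Ru.later, Subgroup.closure_le]
    rintro _ ⟨k, -, hk, rfl⟩
    exact Mo.mem_K _ (hgen k hk)
  have hidx : Odd (Qp.subgroupOf K).index := by
    have h := Subgroup.card_mul_index (Qp.subgroupOf K)
    rw [Nat.card_congr (Subgroup.subgroupOfEquivOfLe hQK).toEquiv, hcardQ, hK] at h
    rw [Nat.eq_of_mul_eq_mul_left (Nat.two_pow_pos _) h]
    exact hr
  intro z hz j hzj
  obtain ⟨hzQ, hzc⟩ := Cfsg.Agent.H50.mem_commutator_comap (p := 2 ^ j) hσ _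
    (Nat.Coprime.pow_left _ (Nat.coprime_two_left.2 hidx)) z hz hzj
  set P0 := (Qp.subgroupOf K).comap σ with hP0
  have hzP : z ∈ ⁅P0, P0⁆ := by
    rw [← Subgroup.map_subtype_commutator]
    exact ⟨_, hzc, rfl⟩
  set s : Set Γ := {x | ∃ k < C.n, G k = x} ∪ {x | ρ x = 1} with hs
  have hgenP0 : Subgroup.closure s = P0 := by
    refine le_antisymm ?_ fun x hx => ?_
    · rw [Subgroup.closure_le]
      rintro x (⟨k, hk, rfl⟩ | hx)
      · show ρ (G k) ∈ Qp
        rw [hG1 k hk]; exact hgQ k hk
      · show ρ x ∈ Qp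
        rw [show ρ x = 1 from hx]; exact one_mem _
    · obtain ⟨m, -, hm⟩ := hQnf (ρ x) hx
      have hm' : M.nf m ∈ Subgroup.closure s := list_prod_mem fun y hy => by
        obtain ⟨k, hk, rfl⟩ := List.mem_map.1 hy
        exact Subgroup.subset_closure (.inl ⟨k, bitsOf_lt hk, rfl⟩)
      have h1 : (M.nf m)⁻¹ * x ∈ Subgroup.closure s :=
        Subgroup.subset_closure (.inr (by
          show ρ ((M.nf m)⁻¹ * x) = 1
          rw [map_mul, map_inv, hm, inv_mul_cancel]))
      simpa using mul_mem hm' h1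
  set T : Set Γ := {x | ∃ k, C.nb ≤ k ∧ k < C.n ∧ G k = x} ∪ Subgroup.zpowers eΓ with hT
  set D : Subgroup Γ := Subgroup.closure T with hD
  have hzD : ∀ x ∈ Subgroup.zpowers eΓ, x ∈ D := fun x hx => Subgroup.subset_closure (.inr hx)
  have hlo : ∀ w k, w % 2 ^ C.nb = 0 → w.testBit k = true → C.nb ≤ k := fun w k h1 h2 => by
    by_contra hlt
    have h3 := congrArg (fun x => x.testBit k) h1
    simp only [Nat.testBit_mod_two_pow, Nat.not_le.1 hlt, decide_true, Bool.true_and,
      Nat.zero_testBit] at h3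
    rw [h2] at h3
    exact Bool.noConfusion h3
  have hnfD : ∀ w, w % 2 ^ C.nb = 0 → M.nf w ∈ D := fun w hw => list_prod_mem fun y hy => by
    obtain ⟨k, hk, rfl⟩ := List.mem_map.1 hy
    simp only [bitsOf, List.mem_filter, List.mem_range] at hk
    exact Subgroup.subset_closure (.inl ⟨k, hlo w k hw hk.2, hk.1, rfl⟩)
  have hcmD : ∀ i j, i < j → j < C.n →
      M.nf (C.R.cm j i).1 * M.V (C.R.cm j i).2 ∈ D := fun i j hij hj => by
    obtain ⟨⟨⟨-, hmod⟩, hok⟩, -⟩ := (hrules j hj).2 i hij
    exact mul_mem (hnfD _ hmod) (hzD _ (hokS _ hok))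
  have hDn : P0 ≤ Subgroup.normalizer (D : Set Γ) := by
    rw [← hgenP0, Subgroup.closure_le]
    rintro g (⟨i, hi, rfl⟩ | hg')
    · by_cases hib : C.nb ≤ i
      · exact Subgroup.le_normalizer (Subgroup.subset_closure (.inl ⟨i, hib, hi, rfl⟩))
      have hle : D.map (MulAut.conj (G i)⁻¹).toMonoidHom ≤ D := by
        rw [hD, MonoidHom.map_closure, Subgroup.closure_le]
        rintro _ ⟨x, hx, rfl⟩
        show (G i)⁻¹ * x * (G i)⁻¹⁻¹ ∈ D
        rcases hx with ⟨k, hk1, hk2, rfl⟩ | hx
        · rw [inv_inv, mul_assoc]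
          change (G i)⁻¹ * (M.G k * M.G i) ∈ D
          rw [M.cm_rule i k (by omega) hk2, ← mul_assoc, ← mul_assoc, ← mul_assoc,
            inv_mul_cancel, one_mul, mul_assoc]
          exact mul_mem (Subgroup.subset_closure (.inl ⟨k, hk1, hk2, rfl⟩))
            (hcmD i k (by omega) hk2)
        · have hxc : ρ x = 1 := by
            obtain ⟨q, rfl⟩ := Subgroup.mem_zpowers_iff.1 hx
            rw [map_zpow, heρ, one_zpow]
          rw [hcen x hxc, mul_inv_cancel_right]
          exact hzD x hx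
      have heq := Subgroup.eq_of_le_of_card_ge hle
        (Nat.card_congr (D.equivMapOfInjective _
          (MulAut.conj (G i)⁻¹).injective).toEquiv).le
      rw [SetLike.mem_coe, ← inv_mem_iff, Subgroup.mem_normalizer_iff]
      intro x
      constructor
      · intro hx
        rw [← heq]
        exact ⟨x, hx, rfl⟩
      · intro hx
        rw [← heq] at hx
        obtain ⟨y, hy, hye⟩ := hx
        rwa [← (MulAut.conj (G i)⁻¹).injective hye]
    · refine Subgroup.mem_normalizer_iff.2 fun x => ?_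
      rw [← hcen g hg' x, mul_inv_cancel_right]
  have hgens : ∀ g ∈ s, ∀ h ∈ s, ⁅g, h⁆ ∈ D := by
    have hzero : ∀ g h : Γ, ρ g = 1 → ⁅g, h⁆ ∈ D := fun g h hg' => by
      rw [commutatorElement_eq_one_iff_mul_comm.2 (hcen g hg' h).symm]; exact one_mem _
    have hbase : ∀ i j, i < j → j < C.n → ⁅G j, G i⁆ ∈ D := fun i j hij hj => by
      have hgg : G i * G j ∈ Subgroup.normalizer (D : Set Γ) := by
        refine hDn ?_
        rw [← hgenP0]
        exact mul_mem (Subgroup.subset_closure (.inl ⟨i, hij.trans hj, rfl⟩))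
          (Subgroup.subset_closure (.inl ⟨j, hj, rfl⟩))
      have e : ⁅G j, G i⁆ =
          G i * G j * (M.nf (C.R.cm j i).1 * M.V (C.R.cm j i).2) * (G i * G j)⁻¹ := by
        rw [commutatorElement_def,
          show M.nf (C.R.cm j i).1 = ((bitsOf C.R.n (C.R.cm j i).1).map M.G).prod from rfl,
          ← mul_assoc (G i * G j)]
        change M.G j * M.G i * (M.G j)⁻¹ * (M.G i)⁻¹ = _
        rw [M.cm_rule i j hij hj]
        group
        rfl
      rw [e]
      exact (Subgroup.mem_normalizer_iff.1 hgg _).1 (hcmD i j hij hj)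
    rintro g (⟨i, hi, rfl⟩ | hg') h hh
    · rcases hh with ⟨k, hk, rfl⟩ | hh
      · rcases Nat.lt_trichotomy i k with hik | rfl | hik
        · rw [← commutatorElement_inv]; exact inv_mem (hbase i k hik hk)
        · rw [commutatorElement_eq_one_iff_mul_comm.2 rfl]; exact one_mem _
        · exact hbase k i hik hi
      · rw [← commutatorElement_inv]; exact inv_mem (hzero _ _ hh)
    · exact hzero _ _ hg'
  have hcom : ⁅P0, P0⁆ ≤ D := by
    rw [Subgroup.commutator_le]
    intro g hg' h hh
    rw [← commutatorElement_inv]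
    refine inv_mem (comm_mem_of_closure hDn hgenP0 (g := g) (fun c hc => ?_) h hh)
    rw [← commutatorElement_inv]
    exact inv_mem (comm_mem_of_closure hDn hgenP0 (g := c) (fun d hd => hgens d hd c hc) g hg')
  have hDnf : ∀ x ∈ D, ∃ m < 2 ^ C.n, m % 2 ^ C.nb = 0 ∧ ∃ c ∈ Subgroup.zpowers eΓ,
      M.nf m * c = x := by
    haveI : (Subgroup.zpowers eΓ).Normal := ⟨fun y hy g => by
      obtain ⟨q, rfl⟩ := Subgroup.mem_zpowers_iff.1 hy
      rw [hcen _ (by rw [map_zpow, heρ, one_zpow]) g, mul_inv_cancel_right]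
      exact zpow_mem (Subgroup.mem_zpowers _) q⟩
    let q : Γ →* Γ ⧸ Subgroup.zpowers eΓ := QuotientGroup.mk' _
    let gq : ℕ → Γ ⧸ Subgroup.zpowers eΓ := fun k => q (G k)
    have hnfq : ∀ m, Ru.nfp gq C.n m = q (M.nf m) := fun m => by
      rw [Ru.nfp]
      show _ = q (((bitsOf C.n m).map G).prod)
      rw [map_list_prod, List.map_map]
      rfl
    have hVq : ∀ f, C.okF f = true → q (M.V f) = 1 := fun f hok =>
      (QuotientGroup.eq_one_iff _).2 (hokS f hok)
    have hsqq : ∀ i < C.n, C.nb ≤ i → ∃ m, m % 2 ^ (i + 1) = 0 ∧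
        gq i * gq i = Ru.nfp gq C.n m := fun i hi hib => by
      refine ⟨(C.R.sq i).1, (hpc i hi).1.1, ?_⟩
      have e : M.G i * M.G i = M.nf (C.R.sq i).1 * M.V (C.R.sq i).2 := M.sq_rule i hi
      show q (G i) * q (G i) = _
      change q (M.G i) * q (M.G i) = _
      rw [← map_mul, e, map_mul, hVq _ ((hpc i hi).1.2.resolve_left (by omega)), mul_one, hnfq]
    have hcmq : ∀ i j, C.nb ≤ i → i < j → j < C.n → ∃ m, m % 2 ^ (i + 1) = 0 ∧
        gq j * gq i = gq i * gq j * Ru.nfp gq C.n m := fun i j _ hij hj => by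
      obtain ⟨⟨-, hok⟩, -⟩ := (hrules j hj).2 i hij
      refine ⟨(C.R.cm j i).1, (hpc j hj).2 i hij, ?_⟩
      show q (M.G j) * q (M.G i) = q (M.G i) * q (M.G j) * _
      rw [← map_mul, M.cm_rule i j hij hj, map_mul, map_mul, map_mul, hVq _ hok, mul_one, hnfq]
      rfl
    intro x hx
    have hqx : q x ∈ Ru.later gq C.n C.nb := by
      refine (Subgroup.closure_le ((Ru.later gq C.n C.nb).comap q)).2 ?_ hx
      rintro y (⟨k, hk1, hk2, rfl⟩ | hy)
      · exact Subgroup.subset_closure ⟨k, hk1, hk2, rfl⟩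
      · show q y ∈ Ru.later gq C.n C.nb
        rw [show q y = 1 from (QuotientGroup.eq_one_iff _).2 hy]
        exact one_mem _
    obtain ⟨m, hm, hm0, e⟩ :=
      Ru.exists_nfp hsqq hcmq (C.n - C.nb) C.nb (by omega) le_rfl (q x) hqx
    rw [hnfq] at e
    exact ⟨m, hm, hm0, (M.nf m)⁻¹ * x, QuotientGroup.eq.1 e, mul_inv_cancel_left _ _⟩
  obtain ⟨m, hm, -, c, hc, hze⟩ := hDnf z (hcom hzP)
  have hcρ : ρ c = 1 := by
    obtain ⟨q, rfl⟩ := Subgroup.mem_zpowers_iff.1 hc
    rw [map_zpow, heρ, one_zpow]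
  have h0 : Mo.val (C.elT O m) = Mo.val (C.elT O 0) := by
    rw [← hnfρ, ← hnfρ, M.nf_zero, map_one]
    have := congrArg ρ hze
    rw [map_mul, hcρ, mul_one, (hker z).2 hz] at this
    exact this
  have hm0 : m = 0 := congrArg Fin.val (hbij.1 (a₁ := ⟨m, hm⟩) (a₂ := ⟨0, Nat.two_pow_pos _⟩)
    (Subtype.ext (show Ru.nfp gv C.n m = Ru.nfp gv C.n 0 by rw [hnfv, hnfv]; exact h0)))
  rw [hm0, M.nf_zero, one_mul] at hze
  exact hze ▸ hc

end Cert

end Cfsg.Agent.H94.HS
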