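import Cfsg.Agent.H94.Ru.UpperData
import Cfsg.Agent.H94.Ru.Mat
import Cfsg.Agent.H94.Ru.PcSound

/-!
Evaluation of the certificate for the 2-part of the multiplier of the Rudvalis group.
-/

set_option autoImplicit false
set_option Elab.async false

namespace Cfsg.Agent.H94.Ru

theorem upperRu_Pc : upperRu.checkPc = true := by decide +kernel

theorem upperRu_Sep : checkSep ruGens ruSep = true := by decide +kernel

end Cfsg.Agent.H94.Ru
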