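import Cfsg.Agent.H94.Ru.ElemData
import Cfsg.Agent.H94.Ru.Mat

/-!
Kernel checks of the witnesses for the primes three and five.
-/

set_option autoImplicit false

namespace Cfsg.Agent.H94.Ru

/-- Powers. -/
def powM : ℕ → ℕ → ℕ
  | 0, _ => oneM
  | n + 1, T => mulM (powM n T) T

/-- The elements of an extraspecial group. -/
def tabM (p x y z : ℕ) : List ℕ :=
  (List.range p).flatMap fun i => (List.range p).flatMap fun j => (List.range p).map fun k =>
    mulM (mulM (powM i x) (powM j y)) (powM k z)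

/-- Relations for the prime 3. -/
noncomputable def checkP3 : Bool :=
  memW ruKnown x3M && memW ruKnown y3M && memW ruKnown z3M && memW ruKnown g3M &&
  (mulM x3M y3M == mulM (mulM z3M y3M) x3M) &&
  (mulM x3M z3M == mulM z3M x3M) && (mulM y3M z3M == mulM z3M y3M) &&
  (powM 3 x3M == oneM) && (powM 3 y3M == oneM) &&
  (mulM g3M x3M == mulM (mulM (mulM (powM 1 x3M) (powM 2 y3M)) (powM 2 z3M)) g3M) &&
  (mulM g3M y3M == mulM (mulM (mulM (powM 2 x3M) (powM 2 y3M)) (powM 1 z3M)) g3M) &&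
  (mulM g3M z3M == mulM (powM 1 z3M) g3M) &&
  decide (tabM 3 x3M y3M z3M).Nodup

theorem checkP3_ok : checkP3 = true := by decide +kernel

/-- Relations for the prime 5. -/
noncomputable def checkP5 : Bool :=
  memW ruKnown x5M && memW ruKnown y5M && memW ruKnown z5M && memW ruKnown g5M &&
  (mulM x5M y5M == mulM (mulM z5M y5M) x5M) &&
  (mulM x5M z5M == mulM z5M x5M) && (mulM y5M z5M == mulM z5M y5M) &&
  (powM 5 x5M == oneM) && (powM 5 y5M == oneM) &&
  (mulM g5M x5M == mulM (mulM (mulM (powM 2 x5M) (powM 0 y5M)) (powM 0 z5M)) g5M) &&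
  (mulM g5M y5M == mulM (mulM (mulM (powM 4 x5M) (powM 3 y5M)) (powM 3 z5M)) g5M) &&
  (mulM g5M z5M == mulM (powM 1 z5M) g5M) &&
  decide (tabM 5 x5M y5M z5M).Nodup

theorem checkP5_ok : checkP5 = true := by decide +kernel

end Cfsg.Agent.H94.Ru
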