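import Cfsg.Agent.H94.Ru.UpperData
import Cfsg.Agent.H94.Ru.FormData

/-!
One derived form of the certificate.
-/

set_option autoImplicit false

namespace Cfsg.Agent.H94.Ru

open Cfsg.Agent.H94.HS (Cert)
open Cfsg.Agent.H94.M22 (addF smulF unitF isZeroF)

/-- A later tail is the stated multiple of the generator. -/
noncomputable def formRow (v : ℕ) : Bool :=
  ((upperRu.proofs.getD v (0, [])).2.all fun p => decide (p.1 < ruEqForms.length)) &&
  isZeroF (addF (addF (Cert.comb ruEqForms (upperRu.proofs.getD v (0, [])).2)
      (smulF (-1) (unitF (upperRu.nb + v))))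
    (smulF (upperRu.proofs.getD v (0, [])).1 (unitF upperRu.e)))

end Cfsg.Agent.H94.Ru
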