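import Cfsg.Agent.H94.Ru.ChkTables
import Cfsg.Agent.H94.Ru.ChkUpper
import Cfsg.Agent.H94.Ru.ChkForms
import Cfsg.Agent.H94.Ru.ChkWit
import Cfsg.Agent.H94.Ru.PcSound
import Cfsg.Agent.H94.HS.OddUpper
import Cfsg.Agent.H50.MultiplierBound

/-!
The kernel of a stem extension of the group on 4060 points is an image of the group of order two.
-/

set_option autoImplicit false

namespace Cfsg.Agent.H94.Ru

open Cfsg Equiv
open Cfsg.Agent.PGroups.Ru (autGrp card_aut)
open scoped commutatorElement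

attribute [local irreducible] oneM mulM powM permOf memW ruKnown

variable {A B : ℕ}

lemma memW_mem {T : ℕ} (h : memW ruKnown T = true) : IsMat T ∧ permOf T ∈ autGrp :=
  ⟨isMat_mem h, (permOf_spec (isMat_mem h)).1⟩

lemma permOf_mul_eq {C D : ℕ} (hA : IsMat A) (hB : IsMat B) (hC : IsMat C) (hD : IsMat D)
    (h : mulM A B = mulM C D) : permOf A * permOf B = permOf C * permOf D := by
  rw [← (isMat_mulM hA hB).2, ← (isMat_mulM hC hD).2, h]

lemma powM_spec (hA : IsMat A) : ∀ n, IsMat (powM n A) ∧ permOf (powM n A) = permOf A ^ n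
  | 0 => by rw [powM, pow_zero]; exact isMat_oneM
  | n + 1 => by
    obtain ⟨h1, h2⟩ := powM_spec hA n
    rw [powM]
    exact ⟨(isMat_mulM h1 hA).1, by rw [(isMat_mulM h1 hA).2, h2, pow_succ]⟩

/-- An extraspecial Sylow subgroup given by matrices kills the p-part. -/
lemma odd_part {Γ : Type} [Group Γ] [Finite Γ] {σ : Γ →* ↥autGrp} (hσ : IsStemExtension σ)
    {p : ℕ} (hp : p.Prime) (x y z g : ℕ) (a b s c d t D : ℕ)
    (hx : IsMat x) (hy : IsMat y) (hz : IsMat z) (hg : IsMat g)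
    (hxy : mulM x y = mulM (mulM z y) x) (hxz : mulM x z = mulM z x) (hyz : mulM y z = mulM z y)
    (hxp : powM p x = oneM) (hyp : powM p y = oneM)
    (hgx : mulM g x = mulM (mulM (mulM (powM a x) (powM b y)) (powM s z)) g)
    (hgy : mulM g y = mulM (mulM (mulM (powM c x) (powM d y)) (powM t z)) g)
    (hgz : mulM g z = mulM (powM D z) g) (hnd : (tabM p x y z).Nodup)
    (hdet : IsCoprime (((a * D : ℕ) - 1 : ℤ) * ((d * D : ℕ) - 1) - (b * D : ℕ) * (c * D : ℕ)) p)
    (hord : ¬ p ^ 4 ∣ 145926144000) : ∀ v ∈ σ.ker, v ^ p = 1 → v = 1 := by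
  intro v hv hvp
  have okr : ∀ i j k, IsMat (mulM (mulM (powM i x) (powM j y)) (powM k z)) := fun i j k =>
    (isMat_mulM (isMat_mulM (powM_spec hx i).1 (powM_spec hy j).1).1 (powM_spec hz k).1).1
  have rhs : ∀ i j k, permOf (mulM (mulM (powM i x) (powM j y)) (powM k z))
      = permOf x ^ i * permOf y ^ j * permOf z ^ k := fun i j k => by
    rw [(isMat_mulM (isMat_mulM (powM_spec hx i).1 (powM_spec hy j).1).1 (powM_spec hz k).1).2,
      (isMat_mulM (powM_spec hx i).1 (powM_spec hy j).1).2, (powM_spec hx i).2, (powM_spec hy j).2,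
      (powM_spec hz k).2]
  refine HS.eq_one_extraspecial hσ hp ⟨permOf x, (permOf_spec hx).1⟩
    ⟨permOf y, (permOf_spec hy).1⟩ ⟨permOf z, (permOf_spec hz).1⟩ ⟨permOf g, (permOf_spec hg).1⟩
    a b s c d t D (Subtype.ext ?_)
    (Subtype.ext (permOf_mul_eq hx hz hz hx hxz)) (Subtype.ext (permOf_mul_eq hy hz hz hy hyz))
    (Subtype.ext ?_) (Subtype.ext ?_) (Subtype.ext ?_) (Subtype.ext ?_) (Subtype.ext ?_)
    hdet ?_ ?_ v hv hvp
  · have := permOf_mul_eq hx hy (isMat_mulM hz hy).1 hx hxy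
    rw [(isMat_mulM hz hy).2] at this
    simp only [commutatorElement_def, Subgroup.coe_mul, Subgroup.coe_inv]
    rw [this]
    simp [mul_assoc]
  · simp only [SubgroupClass.coe_pow, OneMemClass.coe_one]
    rw [← (powM_spec hx p).2, hxp, isMat_oneM.2]
  · simp only [SubgroupClass.coe_pow, OneMemClass.coe_one]
    rw [← (powM_spec hy p).2, hyp, isMat_oneM.2]
  · have := permOf_mul_eq hg hx (okr a b s) hg hgx
    rw [rhs] at this
    simp only [Subgroup.coe_mul, Subgroup.coe_inv, SubgroupClass.coe_pow]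
    rw [this, mul_inv_cancel_right]
  · have := permOf_mul_eq hg hy (okr c d t) hg hgy
    rw [rhs] at this
    simp only [Subgroup.coe_mul, Subgroup.coe_inv, SubgroupClass.coe_pow]
    rw [this, mul_inv_cancel_right]
  · have := permOf_mul_eq hg hz (powM_spec hz D).1 hg hgz
    rw [(powM_spec hz D).2] at this
    simp only [Subgroup.coe_mul, Subgroup.coe_inv, SubgroupClass.coe_pow]
    rw [this, mul_inv_cancel_right]
  · intro u w huw
    have h' := congrArg Subtype.val huw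
    simp only [Subgroup.coe_mul, SubgroupClass.coe_pow, ← rhs] at h'
    have e := eq_of_permOf (okr _ _ _) (okr _ _ _) h'
    let F : ℕ × ℕ × ℕ → ℕ := fun u =>
      mulM (mulM (powM u.1 x) (powM u.2.1 y)) (powM u.2.2 z)
    have hl : ((List.range p).flatMap fun i => (List.range p).flatMap fun j =>
        (List.range p).map fun k => ((i, j, k) : ℕ × ℕ × ℕ)).map F = tabM p x y z := by
      simp only [tabM, List.map_flatMap, List.map_map, F]
      rfl
    have e2 := List.inj_on_of_nodup_map (hl ▸ hnd)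
      (show ((u.1 : ℕ), (u.2.1 : ℕ), (u.2.2 : ℕ)) ∈ _ by simp)
      (show ((w.1 : ℕ), (w.2.1 : ℕ), (w.2.2 : ℕ)) ∈ _ by simp) e
    simp only [Prod.mk.injEq] at e2
    exact Prod.ext (Fin.ext e2.1) (Prod.ext (Fin.ext e2.2.1) (Fin.ext e2.2.2))
  · rw [card_aut]; exact hord

attribute [local irreducible] x3M y3M z3M g3M x5M y5M z5M g5M

theorem exists_surjective_two {Γ : Type} [Group Γ] [Finite Γ] (σ : Γ →* ↥autGrp)
    (hσ : IsStemExtension σ) :
    ∃ f : Multiplicative (ZMod 2) →* σ.ker, Function.Surjective f := by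
  have h3' := checkP3_ok
  simp only [checkP3, Bool.and_eq_true, beq_iff_eq, decide_eq_true_eq] at h3'
  obtain ⟨⟨⟨⟨⟨⟨⟨⟨⟨⟨⟨⟨a1, a2⟩, a3⟩, a4⟩, a5⟩, a6⟩, a7⟩, a8⟩, a9⟩, a10⟩, a11⟩, a12⟩, a13⟩ := h3'
  have h5' := checkP5_ok
  simp only [checkP5, Bool.and_eq_true, beq_iff_eq, decide_eq_true_eq] at h5'
  obtain ⟨⟨⟨⟨⟨⟨⟨⟨⟨⟨⟨⟨b1, b2⟩, b3⟩, b4⟩, b5⟩, b6⟩, b7⟩, b8⟩, b9⟩, b10⟩, b11⟩, b12⟩, b13⟩ := h5'
  have odd3 := odd_part hσ Nat.prime_three x3M y3M z3M g3M 1 2 2 2 2 1 1 (isMat_mem a1)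
    (isMat_mem a2) (isMat_mem a3) (isMat_mem a4) a5 a6 a7 a8 a9 a10 a11 a12 a13
    (by norm_num [Int.isCoprime_iff_gcd_eq_one]) (by norm_num)
  have odd5 := odd_part hσ Nat.prime_five x5M y5M z5M g5M 2 0 0 4 3 3 1 (isMat_mem b1)
    (isMat_mem b2) (isMat_mem b3) (isMat_mem b4) b5 b6 b7 b8 b9 b10 b11 b12 b13
    (by norm_num [Int.isCoprime_iff_gcd_eq_one]) (by norm_num)
  refine Cfsg.Agent.H50.exists_surjective_of_parts (n₂ := 2) (n₃ := 1) hσ (by norm_num) ?_ ?_ ?_
  · refine upperRu.exists_gen_two_pc (matModel ruKnown) σ upperRu_Tables upperRu_Pc ?_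
      upperRu_Forms (r := 8906625) (by decide) (by rw [card_aut]; rfl) hσ
    intro i hi
    have hgm : ∀ k < ruGens.length, IsMat (ruGens.getD k oneM) := fun k hk => by
      have h := List.all_eq_true.1 upperRu_gens (ruGens.getD k oneM)
        (by rw [List.getD_eq_getElem _ _ hk]; exact List.getElem_mem _)
      exact isMat_mem h
    exact not_mem_later hgm upperRu_Sep i hi
  · refine ⟨1, one_mem _, one_pow _, fun z hz k => ?_⟩
    induction k generalizing z with
    | zero => intro h; rw [pow_zero, pow_one] at h; rw [h]; exact one_mem _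
    | succ k ih =>
      intro h
      rw [pow_succ', pow_mul] at h
      have h1 := ih (z ^ 3) (pow_mem hz 3) h
      rw [Subgroup.zpowers_one_eq_bot, Subgroup.mem_bot] at h1
      rw [odd3 z hz h1]
      exact one_mem _
  · intro p hp h2 h3 z hz hzp
    by_cases h5 : p = 5
    · exact odd5 z hz (h5 ▸ hzp)
    refine Cfsg.Agent.H50.eq_one_of_sq_not_dvd hσ hp ?_ z hz hzp
    rw [card_aut, show (145926144000 : ℕ) = 2 ^ 14 * 3 ^ 3 * 5 ^ 3 * 2639 by norm_num]
    intro hd
    have hc : ∀ {q : ℕ}, q.Prime → p ≠ q → ∀ n, (p ^ 2).Coprime (q ^ n) := fun hq hne n =>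
      Nat.coprime_pow_primes 2 n hp hq hne
    have h77 : p ^ 2 ∣ 2639 :=
      (Nat.Coprime.mul_right (Nat.Coprime.mul_right (hc Nat.prime_two h2 14) (hc Nat.prime_three h3 3))
        (hc Nat.prime_five h5 3)).dvd_of_dvd_mul_left hd
    have hle : p ^ 2 ≤ 2639 := Nat.le_of_dvd (by norm_num) h77
    have : p ≤ 51 := by nlinarith [sq p]
    interval_cases p <;> first | (norm_num at h77; done) | norm_num at hp

end Cfsg.Agent.H94.Ru
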