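import Cfsg.Agent.H94.HS.Cert
import Cfsg.Agent.H94.Ru.ElemData

/-!
Generated certificate for the 2-part of the multiplier of the Rudvalis group.
-/

set_option autoImplicit false
set_option maxRecDepth 8000

namespace Cfsg.Agent.H94.Ru

/-- Data. -/
noncomputable def ruSq : List (ℕ × List ℤ) := [
    (8, [1]),
    (0, [0, 1]),
    (64, [0, 0, 1]),
    (0, [0, 0, 0, 0, 1]),
    (6656, [0, 0, 0, 0, 0, 1]),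
    (0, [0, 0, 0, 0, 0, 0, 1]),
    (6144, [0, 0, 0, 0, 0, 0, 0, 1]),
    (8192, [0, 0, 0, 1]),
    (0, [0, 0, 0, 0, 0, 0, 0, 0, 1]),
    (0, [0, 0, 0, 0, 0, 0, 0, 0, 0, 1]),
    (0, [0, 0, 0, 0, 0, 0, 0, 0, 0, 0, 1]),
    (0, [0, 0, 0, 0, 0, 0, 0, 0, 0, 0, 0, 1]),
    (0, [0, 0, 0, 0, 0, 0, 0, 0, 0, 0, 0, 0, 1]),
    (0, [0, 0, 0, 0, 0, 0, 0, 0, 0, 0, 0, 0, 0, 1])]

/-- Data. -/
noncomputable def ruCm0 : List (ℕ × List ℤ) := []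

/-- Data. -/
noncomputable def ruCm1 : List (ℕ × List ℤ) := [
    (8, [])]

/-- Data. -/
noncomputable def ruCm2 : List (ℕ × List ℤ) := [
    (16, []),
    (32, [])]

/-- Data. -/
noncomputable def ruCm3 : List (ℕ × List ℤ) := [
    (0, [0, 0, 0, 0, 0, 0, 0, 0, 0, 0, 0, 0, 0, 0, 1]),
    (0, [0, 0, 0, 0, 0, 0, 0, 0, 0, 0, 0, 0, 0, 0, 0, 1]),
    (64, [])]

/-- Data. -/
noncomputable def ruCm4 : List (ℕ × List ℤ) := [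
    (8768, [0, 0, 0, 0, 0, 0, 0, 0, 0, 0, 0, 0, 0, 0, 0, 0, 1]),
    (128, []),
    (13056, [0, 0, 0, 0, 0, 0, 0, 0, 0, 0, 0, 0, 0, 0, 0, 0, 0, 1]),
    (7424, [0, 0, 0, 0, 0, 0, 0, 0, 0, 0, 0, 0, 0, 0, 0, 0, 0, 0, 1])]

/-- Data. -/
noncomputable def ruCm5 : List (ℕ × List ℤ) := [
    (704, [0, 0, 0, 0, 0, 0, 0, 0, 0, 0, 0, 0, 0, 0, 0, 0, 0, 0, 0, 1]),
    (0, [0, 0, 0, 0, 0, 0, 0, 0, 0, 0, 0, 0, 0, 0, 0, 0, 0, 0, 0, 0, 1]),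
    (8448, [0, 0, 0, 0, 0, 0, 0, 0, 0, 0, 0, 0, 0, 0, 0, 0, 0, 0, 0, 0, 0, 1]),
    (5376, [0, 0, 0, 0, 0, 0, 0, 0, 0, 0, 0, 0, 0, 0, 0, 0, 0, 0, 0, 0, 0, 0, 1]),
    (12800, [0, 0, 0, 0, 0, 0, 0, 0, 0, 0, 0, 0, 0, 0, 0, 0, 0, 0, 0, 0, 0, 0, 0, 1])]

/-- Data. -/
noncomputable def ruCm6 : List (ℕ × List ℤ) := [
    (256, []),
    (8448, [0, 0, 0, 0, 0, 0, 0, 0, 0, 0, 0, 0, 0, 0, 0, 0, 0, 0, 0, 0, 0, 0, 0, 0, 1]),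
    (0, [0, 0, 0, 0, 0, 0, 0, 0, 0, 0, 0, 0, 0, 0, 0, 0, 0, 0, 0, 0, 0, 0, 0, 0, 0, 1]),
    (6144, [0, 0, 0, 0, 0, 0, 0, 0, 0, 0, 0, 0, 0, 0, 0, 0, 0, 0, 0, 0, 0, 0, 0, 0, 0, 0, 1]),
    (11264, [0, 0, 0, 0, 0, 0, 0, 0, 0, 0, 0, 0, 0, 0, 0, 0, 0, 0, 0, 0, 0, 0, 0, 0, 0, 0, 0, 1]),
    (1024, [0, 0, 0, 0, 0, 0, 0, 0, 0, 0, 0, 0, 0, 0, 0, 0, 0, 0, 0, 0, 0, 0, 0, 0, 0, 0, 0, 0, 1])]

/-- Data. -/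
noncomputable def ruCm7 : List (ℕ × List ℤ) := [
    (4096, [0, 0, 0, 0, 0, 0, 0, 0, 0, 0, 0, 0, 0, 0, 0, 0, 0, 0, 0, 0, 0, 0, 0, 0, 0, 0, 0, 0, 0, 1]),
    (8192, [0, 0, 0, 0, 0, 0, 0, 0, 0, 0, 0, 0, 0, 0, 0, 0, 0, 0, 0, 0, 0, 0, 0, 0, 0, 0, 0, 0, 0, 0, 1]),
    (512, []),
    (0, [0, 0, 0, 0, 0, 0, 0, 0, 0, 0, 0, 0, 0, 0, 0, 0, 0, 0, 0, 0, 0, 0, 0, 0, 0, 0, 0, 0, 0, 0, 0, 1]),
    (1024, [0, 0, 0, 0, 0, 0, 0, 0, 0, 0, 0, 0, 0, 0, 0, 0, 0, 0, 0, 0, 0, 0, 0, 0, 0, 0, 0, 0, 0, 0, 0, 0, 1]),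
    (13312, [0, 0, 0, 0, 0, 0, 0, 0, 0, 0, 0, 0, 0, 0, 0, 0, 0, 0, 0, 0, 0, 0, 0, 0, 0, 0, 0, 0, 0, 0, 0, 0, 0, 1]),
    (10240, [0, 0, 0, 0, 0, 0, 0, 0, 0, 0, 0, 0, 0, 0, 0, 0, 0, 0, 0, 0, 0, 0, 0, 0, 0, 0, 0, 0, 0, 0, 0, 0, 0, 0, 1])]

/-- Data. -/
noncomputable def ruCm8 : List (ℕ × List ℤ) := [
    (6144, [0, 0, 0, 0, 0, 0, 0, 0, 0, 0, 0, 0, 0, 0, 0, 0, 0, 0, 0, 0, 0, 0, 0, 0, 0, 0, 0, 0, 0, 0, 0, 0, 0, 0, 0, 1]),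
    (0, [0, 0, 0, 0, 0, 0, 0, 0, 0, 0, 0, 0, 0, 0, 0, 0, 0, 0, 0, 0, 0, 0, 0, 0, 0, 0, 0, 0, 0, 0, 0, 0, 0, 0, 0, 0, 1]),
    (1024, []),
    (4096, [0, 0, 0, 0, 0, 0, 0, 0, 0, 0, 0, 0, 0, 0, 0, 0, 0, 0, 0, 0, 0, 0, 0, 0, 0, 0, 0, 0, 0, 0, 0, 0, 0, 0, 0, 0, 0, 1]),
    (10240, [0, 0, 0, 0, 0, 0, 0, 0, 0, 0, 0, 0, 0, 0, 0, 0, 0, 0, 0, 0, 0, 0, 0, 0, 0, 0, 0, 0, 0, 0, 0, 0, 0, 0, 0, 0, 0, 0, 1]),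
    (0, [0, 0, 0, 0, 0, 0, 0, 0, 0, 0, 0, 0, 0, 0, 0, 0, 0, 0, 0, 0, 0, 0, 0, 0, 0, 0, 0, 0, 0, 0, 0, 0, 0, 0, 0, 0, 0, 0, 0, 1]),
    (4096, [0, 0, 0, 0, 0, 0, 0, 0, 0, 0, 0, 0, 0, 0, 0, 0, 0, 0, 0, 0, 0, 0, 0, 0, 0, 0, 0, 0, 0, 0, 0, 0, 0, 0, 0, 0, 0, 0, 0, 0, 1]),
    (4096, [0, 0, 0, 0, 0, 0, 0, 0, 0, 0, 0, 0, 0, 0, 0, 0, 0, 0, 0, 0, 0, 0, 0, 0, 0, 0, 0, 0, 0, 0, 0, 0, 0, 0, 0, 0, 0, 0, 0, 0, 0, 1])]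

/-- Data. -/
noncomputable def ruCm9 : List (ℕ × List ℤ) := [
    (1024, [0, 0, 0, 0, 0, 0, 0, 0, 0, 0, 0, 0, 0, 0, 0, 0, 0, 0, 0, 0, 0, 0, 0, 0, 0, 0, 0, 0, 0, 0, 0, 0, 0, 0, 0, 0, 0, 0, 0, 0, 0, 0, 1]),
    (13312, [0, 0, 0, 0, 0, 0, 0, 0, 0, 0, 0, 0, 0, 0, 0, 0, 0, 0, 0, 0, 0, 0, 0, 0, 0, 0, 0, 0, 0, 0, 0, 0, 0, 0, 0, 0, 0, 0, 0, 0, 0, 0, 0, 1]),
    (10240, [0, 0, 0, 0, 0, 0, 0, 0, 0, 0, 0, 0, 0, 0, 0, 0, 0, 0, 0, 0, 0, 0, 0, 0, 0, 0, 0, 0, 0, 0, 0, 0, 0, 0, 0, 0, 0, 0, 0, 0, 0, 0, 0, 0, 1]),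
    (2048, [0, 0, 0, 0, 0, 0, 0, 0, 0, 0, 0, 0, 0, 0, 0, 0, 0, 0, 0, 0, 0, 0, 0, 0, 0, 0, 0, 0, 0, 0, 0, 0, 0, 0, 0, 0, 0, 0, 0, 0, 0, 0, 0, 0, 0, 1]),
    (8192, [0, 0, 0, 0, 0, 0, 0, 0, 0, 0, 0, 0, 0, 0, 0, 0, 0, 0, 0, 0, 0, 0, 0, 0, 0, 0, 0, 0, 0, 0, 0, 0, 0, 0, 0, 0, 0, 0, 0, 0, 0, 0, 0, 0, 0, 0, 1]),
    (0, [0, 0, 0, 0, 0, 0, 0, 0, 0, 0, 0, 0, 0, 0, 0, 0, 0, 0, 0, 0, 0, 0, 0, 0, 0, 0, 0, 0, 0, 0, 0, 0, 0, 0, 0, 0, 0, 0, 0, 0, 0, 0, 0, 0, 0, 0, 0, 1]),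
    (8192, [0, 0, 0, 0, 0, 0, 0, 0, 0, 0, 0, 0, 0, 0, 0, 0, 0, 0, 0, 0, 0, 0, 0, 0, 0, 0, 0, 0, 0, 0, 0, 0, 0, 0, 0, 0, 0, 0, 0, 0, 0, 0, 0, 0, 0, 0, 0, 0, 1]),
    (0, [0, 0, 0, 0, 0, 0, 0, 0, 0, 0, 0, 0, 0, 0, 0, 0, 0, 0, 0, 0, 0, 0, 0, 0, 0, 0, 0, 0, 0, 0, 0, 0, 0, 0, 0, 0, 0, 0, 0, 0, 0, 0, 0, 0, 0, 0, 0, 0, 0, 1]),
    (8192, [0, 0, 0, 0, 0, 0, 0, 0, 0, 0, 0, 0, 0, 0, 0, 0, 0, 0, 0, 0, 0, 0, 0, 0, 0, 0, 0, 0, 0, 0, 0, 0, 0, 0, 0, 0, 0, 0, 0, 0, 0, 0, 0, 0, 0, 0, 0, 0, 0, 0, 1])]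

/-- Data. -/
noncomputable def ruCm10 : List (ℕ × List ℤ) := [
    (2048, []),
    (0, [0, 0, 0, 0, 0, 0, 0, 0, 0, 0, 0, 0, 0, 0, 0, 0, 0, 0, 0, 0, 0, 0, 0, 0, 0, 0, 0, 0, 0, 0, 0, 0, 0, 0, 0, 0, 0, 0, 0, 0, 0, 0, 0, 0, 0, 0, 0, 0, 0, 0, 0, 1]),
    (4096, [0, 0, 0, 0, 0, 0, 0, 0, 0, 0, 0, 0, 0, 0, 0, 0, 0, 0, 0, 0, 0, 0, 0, 0, 0, 0, 0, 0, 0, 0, 0, 0, 0, 0, 0, 0, 0, 0, 0, 0, 0, 0, 0, 0, 0, 0, 0, 0, 0, 0, 0, 0, 1]),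
    (4096, [0, 0, 0, 0, 0, 0, 0, 0, 0, 0, 0, 0, 0, 0, 0, 0, 0, 0, 0, 0, 0, 0, 0, 0, 0, 0, 0, 0, 0, 0, 0, 0, 0, 0, 0, 0, 0, 0, 0, 0, 0, 0, 0, 0, 0, 0, 0, 0, 0, 0, 0, 0, 0, 1]),
    (0, [0, 0, 0, 0, 0, 0, 0, 0, 0, 0, 0, 0, 0, 0, 0, 0, 0, 0, 0, 0, 0, 0, 0, 0, 0, 0, 0, 0, 0, 0, 0, 0, 0, 0, 0, 0, 0, 0, 0, 0, 0, 0, 0, 0, 0, 0, 0, 0, 0, 0, 0, 0, 0, 0, 1]),
    (0, [0, 0, 0, 0, 0, 0, 0, 0, 0, 0, 0, 0, 0, 0, 0, 0, 0, 0, 0, 0, 0, 0, 0, 0, 0, 0, 0, 0, 0, 0, 0, 0, 0, 0, 0, 0, 0, 0, 0, 0, 0, 0, 0, 0, 0, 0, 0, 0, 0, 0, 0, 0, 0, 0, 0, 1]),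
    (8192, [0, 0, 0, 0, 0, 0, 0, 0, 0, 0, 0, 0, 0, 0, 0, 0, 0, 0, 0, 0, 0, 0, 0, 0, 0, 0, 0, 0, 0, 0, 0, 0, 0, 0, 0, 0, 0, 0, 0, 0, 0, 0, 0, 0, 0, 0, 0, 0, 0, 0, 0, 0, 0, 0, 0, 0, 1]),
    (0, [0, 0, 0, 0, 0, 0, 0, 0, 0, 0, 0, 0, 0, 0, 0, 0, 0, 0, 0, 0, 0, 0, 0, 0, 0, 0, 0, 0, 0, 0, 0, 0, 0, 0, 0, 0, 0, 0, 0, 0, 0, 0, 0, 0, 0, 0, 0, 0, 0, 0, 0, 0, 0, 0, 0, 0, 0, 1]),
    (0, [0, 0, 0, 0, 0, 0, 0, 0, 0, 0, 0, 0, 0, 0, 0, 0, 0, 0, 0, 0, 0, 0, 0, 0, 0, 0, 0, 0, 0, 0, 0, 0, 0, 0, 0, 0, 0, 0, 0, 0, 0, 0, 0, 0, 0, 0, 0, 0, 0, 0, 0, 0, 0, 0, 0, 0, 0, 0, 1]),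
    (0, [0, 0, 0, 0, 0, 0, 0, 0, 0, 0, 0, 0, 0, 0, 0, 0, 0, 0, 0, 0, 0, 0, 0, 0, 0, 0, 0, 0, 0, 0, 0, 0, 0, 0, 0, 0, 0, 0, 0, 0, 0, 0, 0, 0, 0, 0, 0, 0, 0, 0, 0, 0, 0, 0, 0, 0, 0, 0, 0, 1])]

/-- Data. -/
noncomputable def ruCm11 : List (ℕ × List ℤ) := [
    (4096, []),
    (4096, [0, 0, 0, 0, 0, 0, 0, 0, 0, 0, 0, 0, 0, 0, 0, 0, 0, 0, 0, 0, 0, 0, 0, 0, 0, 0, 0, 0, 0, 0, 0, 0, 0, 0, 0, 0, 0, 0, 0, 0, 0, 0, 0, 0, 0, 0, 0, 0, 0, 0, 0, 0, 0, 0, 0, 0, 0, 0, 0, 0, 1]),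
    (8192, [0, 0, 0, 0, 0, 0, 0, 0, 0, 0, 0, 0, 0, 0, 0, 0, 0, 0, 0, 0, 0, 0, 0, 0, 0, 0, 0, 0, 0, 0, 0, 0, 0, 0, 0, 0, 0, 0, 0, 0, 0, 0, 0, 0, 0, 0, 0, 0, 0, 0, 0, 0, 0, 0, 0, 0, 0, 0, 0, 0, 0, 1]),
    (0, [0, 0, 0, 0, 0, 0, 0, 0, 0, 0, 0, 0, 0, 0, 0, 0, 0, 0, 0, 0, 0, 0, 0, 0, 0, 0, 0, 0, 0, 0, 0, 0, 0, 0, 0, 0, 0, 0, 0, 0, 0, 0, 0, 0, 0, 0, 0, 0, 0, 0, 0, 0, 0, 0, 0, 0, 0, 0, 0, 0, 0, 0, 1]),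
    (8192, [0, 0, 0, 0, 0, 0, 0, 0, 0, 0, 0, 0, 0, 0, 0, 0, 0, 0, 0, 0, 0, 0, 0, 0, 0, 0, 0, 0, 0, 0, 0, 0, 0, 0, 0, 0, 0, 0, 0, 0, 0, 0, 0, 0, 0, 0, 0, 0, 0, 0, 0, 0, 0, 0, 0, 0, 0, 0, 0, 0, 0, 0, 0, 1]),
    (8192, [0, 0, 0, 0, 0, 0, 0, 0, 0, 0, 0, 0, 0, 0, 0, 0, 0, 0, 0, 0, 0, 0, 0, 0, 0, 0, 0, 0, 0, 0, 0, 0, 0, 0, 0, 0, 0, 0, 0, 0, 0, 0, 0, 0, 0, 0, 0, 0, 0, 0, 0, 0, 0, 0, 0, 0, 0, 0, 0, 0, 0, 0, 0, 0, 1]),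
    (0, [0, 0, 0, 0, 0, 0, 0, 0, 0, 0, 0, 0, 0, 0, 0, 0, 0, 0, 0, 0, 0, 0, 0, 0, 0, 0, 0, 0, 0, 0, 0, 0, 0, 0, 0, 0, 0, 0, 0, 0, 0, 0, 0, 0, 0, 0, 0, 0, 0, 0, 0, 0, 0, 0, 0, 0, 0, 0, 0, 0, 0, 0, 0, 0, 0, 1]),
    (0, [0, 0, 0, 0, 0, 0, 0, 0, 0, 0, 0, 0, 0, 0, 0, 0, 0, 0, 0, 0, 0, 0, 0, 0, 0, 0, 0, 0, 0, 0, 0, 0, 0, 0, 0, 0, 0, 0, 0, 0, 0, 0, 0, 0, 0, 0, 0, 0, 0, 0, 0, 0, 0, 0, 0, 0, 0, 0, 0, 0, 0, 0, 0, 0, 0, 0, 1]),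
    (0, [0, 0, 0, 0, 0, 0, 0, 0, 0, 0, 0, 0, 0, 0, 0, 0, 0, 0, 0, 0, 0, 0, 0, 0, 0, 0, 0, 0, 0, 0, 0, 0, 0, 0, 0, 0, 0, 0, 0, 0, 0, 0, 0, 0, 0, 0, 0, 0, 0, 0, 0, 0, 0, 0, 0, 0, 0, 0, 0, 0, 0, 0, 0, 0, 0, 0, 0, 1]),
    (0, [0, 0, 0, 0, 0, 0, 0, 0, 0, 0, 0, 0, 0, 0, 0, 0, 0, 0, 0, 0, 0, 0, 0, 0, 0, 0, 0, 0, 0, 0, 0, 0, 0, 0, 0, 0, 0, 0, 0, 0, 0, 0, 0, 0, 0, 0, 0, 0, 0, 0, 0, 0, 0, 0, 0, 0, 0, 0, 0, 0, 0, 0, 0, 0, 0, 0, 0, 0, 1]),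
    (0, [0, 0, 0, 0, 0, 0, 0, 0, 0, 0, 0, 0, 0, 0, 0, 0, 0, 0, 0, 0, 0, 0, 0, 0, 0, 0, 0, 0, 0, 0, 0, 0, 0, 0, 0, 0, 0, 0, 0, 0, 0, 0, 0, 0, 0, 0, 0, 0, 0, 0, 0, 0, 0, 0, 0, 0, 0, 0, 0, 0, 0, 0, 0, 0, 0, 0, 0, 0, 0, 1])]

/-- Data. -/
noncomputable def ruCm12 : List (ℕ × List ℤ) := [
    (0, [0, 0, 0, 0, 0, 0, 0, 0, 0, 0, 0, 0, 0, 0, 0, 0, 0, 0, 0, 0, 0, 0, 0, 0, 0, 0, 0, 0, 0, 0, 0, 0, 0, 0, 0, 0, 0, 0, 0, 0, 0, 0, 0, 0, 0, 0, 0, 0, 0, 0, 0, 0, 0, 0, 0, 0, 0, 0, 0, 0, 0, 0, 0, 0, 0, 0, 0, 0, 0, 0, 1]),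
    (0, [0, 0, 0, 0, 0, 0, 0, 0, 0, 0, 0, 0, 0, 0, 0, 0, 0, 0, 0, 0, 0, 0, 0, 0, 0, 0, 0, 0, 0, 0, 0, 0, 0, 0, 0, 0, 0, 0, 0, 0, 0, 0, 0, 0, 0, 0, 0, 0, 0, 0, 0, 0, 0, 0, 0, 0, 0, 0, 0, 0, 0, 0, 0, 0, 0, 0, 0, 0, 0, 0, 0, 1]),
    (8192, []),
    (0, [0, 0, 0, 0, 0, 0, 0, 0, 0, 0, 0, 0, 0, 0, 0, 0, 0, 0, 0, 0, 0, 0, 0, 0, 0, 0, 0, 0, 0, 0, 0, 0, 0, 0, 0, 0, 0, 0, 0, 0, 0, 0, 0, 0, 0, 0, 0, 0, 0, 0, 0, 0, 0, 0, 0, 0, 0, 0, 0, 0, 0, 0, 0, 0, 0, 0, 0, 0, 0, 0, 0, 0, 1]),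
    (0, [0, 0, 0, 0, 0, 0, 0, 0, 0, 0, 0, 0, 0, 0, 0, 0, 0, 0, 0, 0, 0, 0, 0, 0, 0, 0, 0, 0, 0, 0, 0, 0, 0, 0, 0, 0, 0, 0, 0, 0, 0, 0, 0, 0, 0, 0, 0, 0, 0, 0, 0, 0, 0, 0, 0, 0, 0, 0, 0, 0, 0, 0, 0, 0, 0, 0, 0, 0, 0, 0, 0, 0, 0, 1]),
    (0, [0, 0, 0, 0, 0, 0, 0, 0, 0, 0, 0, 0, 0, 0, 0, 0, 0, 0, 0, 0, 0, 0, 0, 0, 0, 0, 0, 0, 0, 0, 0, 0, 0, 0, 0, 0, 0, 0, 0, 0, 0, 0, 0, 0, 0, 0, 0, 0, 0, 0, 0, 0, 0, 0, 0, 0, 0, 0, 0, 0, 0, 0, 0, 0, 0, 0, 0, 0, 0, 0, 0, 0, 0, 0, 1]),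
    (0, [0, 0, 0, 0, 0, 0, 0, 0, 0, 0, 0, 0, 0, 0, 0, 0, 0, 0, 0, 0, 0, 0, 0, 0, 0, 0, 0, 0, 0, 0, 0, 0, 0, 0, 0, 0, 0, 0, 0, 0, 0, 0, 0, 0, 0, 0, 0, 0, 0, 0, 0, 0, 0, 0, 0, 0, 0, 0, 0, 0, 0, 0, 0, 0, 0, 0, 0, 0, 0, 0, 0, 0, 0, 0, 0, 1]),
    (0, [0, 0, 0, 0, 0, 0, 0, 0, 0, 0, 0, 0, 0, 0, 0, 0, 0, 0, 0, 0, 0, 0, 0, 0, 0, 0, 0, 0, 0, 0, 0, 0, 0, 0, 0, 0, 0, 0, 0, 0, 0, 0, 0, 0, 0, 0, 0, 0, 0, 0, 0, 0, 0, 0, 0, 0, 0, 0, 0, 0, 0, 0, 0, 0, 0, 0, 0, 0, 0, 0, 0, 0, 0, 0, 0, 0, 1]),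
    (0, [0, 0, 0, 0, 0, 0, 0, 0, 0, 0, 0, 0, 0, 0, 0, 0, 0, 0, 0, 0, 0, 0, 0, 0, 0, 0, 0, 0, 0, 0, 0, 0, 0, 0, 0, 0, 0, 0, 0, 0, 0, 0, 0, 0, 0, 0, 0, 0, 0, 0, 0, 0, 0, 0, 0, 0, 0, 0, 0, 0, 0, 0, 0, 0, 0, 0, 0, 0, 0, 0, 0, 0, 0, 0, 0, 0, 0, 1]),
    (0, [0, 0, 0, 0, 0, 0, 0, 0, 0, 0, 0, 0, 0, 0, 0, 0, 0, 0, 0, 0, 0, 0, 0, 0, 0, 0, 0, 0, 0, 0, 0, 0, 0, 0, 0, 0, 0, 0, 0, 0, 0, 0, 0, 0, 0, 0, 0, 0, 0, 0, 0, 0, 0, 0, 0, 0, 0, 0, 0, 0, 0, 0, 0, 0, 0, 0, 0, 0, 0, 0, 0, 0, 0, 0, 0, 0, 0, 0, 1]),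
    (0, [0, 0, 0, 0, 0, 0, 0, 0, 0, 0, 0, 0, 0, 0, 0, 0, 0, 0, 0, 0, 0, 0, 0, 0, 0, 0, 0, 0, 0, 0, 0, 0, 0, 0, 0, 0, 0, 0, 0, 0, 0, 0, 0, 0, 0, 0, 0, 0, 0, 0, 0, 0, 0, 0, 0, 0, 0, 0, 0, 0, 0, 0, 0, 0, 0, 0, 0, 0, 0, 0, 0, 0, 0, 0, 0, 0, 0, 0, 0, 1]),
    (0, [0, 0, 0, 0, 0, 0, 0, 0, 0, 0, 0, 0, 0, 0, 0, 0, 0, 0, 0, 0, 0, 0, 0, 0, 0, 0, 0, 0, 0, 0, 0, 0, 0, 0, 0, 0, 0, 0, 0, 0, 0, 0, 0, 0, 0, 0, 0, 0, 0, 0, 0, 0, 0, 0, 0, 0, 0, 0, 0, 0, 0, 0, 0, 0, 0, 0, 0, 0, 0, 0, 0, 0, 0, 0, 0, 0, 0, 0, 0, 0, 1])]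

/-- Data. -/
noncomputable def ruCm13 : List (ℕ × List ℤ) := [
    (0, [0, 0, 0, 0, 0, 0, 0, 0, 0, 0, 0, 0, 0, 0, 0, 0, 0, 0, 0, 0, 0, 0, 0, 0, 0, 0, 0, 0, 0, 0, 0, 0, 0, 0, 0, 0, 0, 0, 0, 0, 0, 0, 0, 0, 0, 0, 0, 0, 0, 0, 0, 0, 0, 0, 0, 0, 0, 0, 0, 0, 0, 0, 0, 0, 0, 0, 0, 0, 0, 0, 0, 0, 0, 0, 0, 0, 0, 0, 0, 0, 0, 1]),
    (0, [0, 0, 0, 0, 0, 0, 0, 0, 0, 0, 0, 0, 0, 0, 0, 0, 0, 0, 0, 0, 0, 0, 0, 0, 0, 0, 0, 0, 0, 0, 0, 0, 0, 0, 0, 0, 0, 0, 0, 0, 0, 0, 0, 0, 0, 0, 0, 0, 0, 0, 0, 0, 0, 0, 0, 0, 0, 0, 0, 0, 0, 0, 0, 0, 0, 0, 0, 0, 0, 0, 0, 0, 0, 0, 0, 0, 0, 0, 0, 0, 0, 0, 1]),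
    (0, [0, 0, 0, 0, 0, 0, 0, 0, 0, 0, 0, 0, 0, 0, 0, 0, 0, 0, 0, 0, 0, 0, 0, 0, 0, 0, 0, 0, 0, 0, 0, 0, 0, 0, 0, 0, 0, 0, 0, 0, 0, 0, 0, 0, 0, 0, 0, 0, 0, 0, 0, 0, 0, 0, 0, 0, 0, 0, 0, 0, 0, 0, 0, 0, 0, 0, 0, 0, 0, 0, 0, 0, 0, 0, 0, 0, 0, 0, 0, 0, 0, 0, 0, 1]),
    (0, [0, 0, 0, 0, 0, 0, 0, 0, 0, 0, 0, 0, 0, 0, 0, 0, 0, 0, 0, 0, 0, 0, 0, 0, 0, 0, 0, 0, 0, 0, 0, 0, 0, 0, 0, 0, 0, 0, 0, 0, 0, 0, 0, 0, 0, 0, 0, 0, 0, 0, 0, 0, 0, 0, 0, 0, 0, 0, 0, 0, 0, 0, 0, 0, 0, 0, 0, 0, 0, 0, 0, 0, 0, 0, 0, 0, 0, 0, 0, 0, 0, 0, 0, 0, 1]),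
    (0, [0, 0, 0, 0, 0, 0, 0, 0, 0, 0, 0, 0, 0, 0, 0, 0, 0, 0, 0, 0, 0, 0, 0, 0, 0, 0, 0, 0, 0, 0, 0, 0, 0, 0, 0, 0, 0, 0, 0, 0, 0, 0, 0, 0, 0, 0, 0, 0, 0, 0, 0, 0, 0, 0, 0, 0, 0, 0, 0, 0, 0, 0, 0, 0, 0, 0, 0, 0, 0, 0, 0, 0, 0, 0, 0, 0, 0, 0, 0, 0, 0, 0, 0, 0, 0, 1]),
    (0, [0, 0, 0, 0, 0, 0, 0, 0, 0, 0, 0, 0, 0, 0, 0, 0, 0, 0, 0, 0, 0, 0, 0, 0, 0, 0, 0, 0, 0, 0, 0, 0, 0, 0, 0, 0, 0, 0, 0, 0, 0, 0, 0, 0, 0, 0, 0, 0, 0, 0, 0, 0, 0, 0, 0, 0, 0, 0, 0, 0, 0, 0, 0, 0, 0, 0, 0, 0, 0, 0, 0, 0, 0, 0, 0, 0, 0, 0, 0, 0, 0, 0, 0, 0, 0, 0, 1]),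
    (0, [0, 0, 0, 0, 0, 0, 0, 0, 0, 0, 0, 0, 0, 0, 0, 0, 0, 0, 0, 0, 0, 0, 0, 0, 0, 0, 0, 0, 0, 0, 0, 0, 0, 0, 0, 0, 0, 0, 0, 0, 0, 0, 0, 0, 0, 0, 0, 0, 0, 0, 0, 0, 0, 0, 0, 0, 0, 0, 0, 0, 0, 0, 0, 0, 0, 0, 0, 0, 0, 0, 0, 0, 0, 0, 0, 0, 0, 0, 0, 0, 0, 0, 0, 0, 0, 0, 0, 1]),
    (0, [0, 0, 0, 0, 0, 0, 0, 0, 0, 0, 0, 0, 0, 0, 0, 0, 0, 0, 0, 0, 0, 0, 0, 0, 0, 0, 0, 0, 0, 0, 0, 0, 0, 0, 0, 0, 0, 0, 0, 0, 0, 0, 0, 0, 0, 0, 0, 0, 0, 0, 0, 0, 0, 0, 0, 0, 0, 0, 0, 0, 0, 0, 0, 0, 0, 0, 0, 0, 0, 0, 0, 0, 0, 0, 0, 0, 0, 0, 0, 0, 0, 0, 0, 0, 0, 0, 0, 0, 1]),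
    (0, [0, 0, 0, 0, 0, 0, 0, 0, 0, 0, 0, 0, 0, 0, 0, 0, 0, 0, 0, 0, 0, 0, 0, 0, 0, 0, 0, 0, 0, 0, 0, 0, 0, 0, 0, 0, 0, 0, 0, 0, 0, 0, 0, 0, 0, 0, 0, 0, 0, 0, 0, 0, 0, 0, 0, 0, 0, 0, 0, 0, 0, 0, 0, 0, 0, 0, 0, 0, 0, 0, 0, 0, 0, 0, 0, 0, 0, 0, 0, 0, 0, 0, 0, 0, 0, 0, 0, 0, 0, 1]),
    (0, [0, 0, 0, 0, 0, 0, 0, 0, 0, 0, 0, 0, 0, 0, 0, 0, 0, 0, 0, 0, 0, 0, 0, 0, 0, 0, 0, 0, 0, 0, 0, 0, 0, 0, 0, 0, 0, 0, 0, 0, 0, 0, 0, 0, 0, 0, 0, 0, 0, 0, 0, 0, 0, 0, 0, 0, 0, 0, 0, 0, 0, 0, 0, 0, 0, 0, 0, 0, 0, 0, 0, 0, 0, 0, 0, 0, 0, 0, 0, 0, 0, 0, 0, 0, 0, 0, 0, 0, 0, 0, 1]),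
    (0, [0, 0, 0, 0, 0, 0, 0, 0, 0, 0, 0, 0, 0, 0, 0, 0, 0, 0, 0, 0, 0, 0, 0, 0, 0, 0, 0, 0, 0, 0, 0, 0, 0, 0, 0, 0, 0, 0, 0, 0, 0, 0, 0, 0, 0, 0, 0, 0, 0, 0, 0, 0, 0, 0, 0, 0, 0, 0, 0, 0, 0, 0, 0, 0, 0, 0, 0, 0, 0, 0, 0, 0, 0, 0, 0, 0, 0, 0, 0, 0, 0, 0, 0, 0, 0, 0, 0, 0, 0, 0, 0, 1]),
    (0, [0, 0, 0, 0, 0, 0, 0, 0, 0, 0, 0, 0, 0, 0, 0, 0, 0, 0, 0, 0, 0, 0, 0, 0, 0, 0, 0, 0, 0, 0, 0, 0, 0, 0, 0, 0, 0, 0, 0, 0, 0, 0, 0, 0, 0, 0, 0, 0, 0, 0, 0, 0, 0, 0, 0, 0, 0, 0, 0, 0, 0, 0, 0, 0, 0, 0, 0, 0, 0, 0, 0, 0, 0, 0, 0, 0, 0, 0, 0, 0, 0, 0, 0, 0, 0, 0, 0, 0, 0, 0, 0, 0, 1]),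
    (0, [0, 0, 0, 0, 0, 0, 0, 0, 0, 0, 0, 0, 0, 0, 0, 0, 0, 0, 0, 0, 0, 0, 0, 0, 0, 0, 0, 0, 0, 0, 0, 0, 0, 0, 0, 0, 0, 0, 0, 0, 0, 0, 0, 0, 0, 0, 0, 0, 0, 0, 0, 0, 0, 0, 0, 0, 0, 0, 0, 0, 0, 0, 0, 0, 0, 0, 0, 0, 0, 0, 0, 0, 0, 0, 0, 0, 0, 0, 0, 0, 0, 0, 0, 0, 0, 0, 0, 0, 0, 0, 0, 0, 0, 1])]

/-- Data. -/
noncomputable def ruVars : List (ℕ × ℕ × ℕ) := [
    (0, 0, 0), (0, 1, 0), (0, 2, 0), (0, 7, 0), (0, 3, 0), (0, 4, 0), (0, 5, 0), (0, 6, 0),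
    (0, 8, 0), (0, 9, 0), (0, 10, 0), (0, 11, 0), (0, 12, 0), (0, 13, 0), (1, 3, 0), (1, 3, 1),
    (1, 4, 0), (1, 4, 2), (1, 4, 3), (1, 5, 0), (1, 5, 1), (1, 5, 2), (1, 5, 3), (1, 5, 4),
    (1, 6, 1), (1, 6, 2), (1, 6, 3), (1, 6, 4), (1, 6, 5), (1, 7, 0), (1, 7, 1), (1, 7, 3),
    (1, 7, 4), (1, 7, 5), (1, 7, 6), (1, 8, 0), (1, 8, 1), (1, 8, 3), (1, 8, 4), (1, 8, 5),
    (1, 8, 6), (1, 8, 7), (1, 9, 0), (1, 9, 1), (1, 9, 2), (1, 9, 3), (1, 9, 4), (1, 9, 5),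
    (1, 9, 6), (1, 9, 7), (1, 9, 8), (1, 10, 1), (1, 10, 2), (1, 10, 3), (1, 10, 4), (1, 10, 5),
    (1, 10, 6), (1, 10, 7), (1, 10, 8), (1, 10, 9), (1, 11, 1), (1, 11, 2), (1, 11, 3), (1, 11, 4),
    (1, 11, 5), (1, 11, 6), (1, 11, 7), (1, 11, 8), (1, 11, 9), (1, 11, 10), (1, 12, 0), (1, 12, 1),
    (1, 12, 3), (1, 12, 4), (1, 12, 5), (1, 12, 6), (1, 12, 7), (1, 12, 8), (1, 12, 9), (1, 12, 10),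
    (1, 12, 11), (1, 13, 0), (1, 13, 1), (1, 13, 2), (1, 13, 3), (1, 13, 4), (1, 13, 5), (1, 13, 6),
    (1, 13, 7), (1, 13, 8), (1, 13, 9), (1, 13, 10), (1, 13, 11), (1, 13, 12)]

/-- Data. -/
noncomputable def ruTri : List (ℕ × ℕ × ℕ) := [
    (0, 0, 0), (1, 1, 0), (2, 0, 0), (2, 1, 1), (2, 2, 0), (2, 2, 1), (2, 2, 2), (3, 2, 0),
    (3, 2, 1), (3, 3, 2), (4, 1, 0), (4, 1, 1), (4, 2, 0), (4, 2, 1), (4, 3, 2), (4, 4, 1),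
    (4, 4, 4), (5, 3, 1), (6, 1, 0), (6, 2, 1), (6, 3, 0), (6, 3, 2), (6, 4, 0), (6, 5, 2),
    (6, 6, 0), (6, 6, 6), (7, 1, 0), (7, 1, 1), (7, 2, 0), (7, 2, 1), (7, 2, 2), (7, 3, 0),
    (7, 3, 1), (7, 3, 2), (7, 4, 1), (7, 4, 3), (7, 5, 1), (7, 6, 2), (7, 6, 4), (7, 7, 2),
    (7, 7, 7), (8, 2, 1), (8, 3, 1), (8, 3, 2), (8, 6, 2), (8, 7, 0), (8, 7, 2), (8, 8, 2),
    (9, 1, 0), (9, 2, 0), (9, 2, 1), (9, 3, 0), (9, 3, 1), (9, 4, 1), (9, 6, 5), (9, 7, 3),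
    (9, 8, 5), (10, 2, 1), (10, 3, 0), (10, 4, 1), (10, 6, 1), (10, 6, 2), (10, 7, 1), (10, 7, 3),
    (10, 8, 4), (10, 8, 7), (10, 9, 0), (10, 10, 0), (11, 2, 1), (11, 4, 1), (11, 6, 0), (11, 6, 2),
    (11, 6, 3), (11, 7, 6), (11, 8, 0), (11, 8, 4), (11, 9, 2), (11, 11, 0), (12, 2, 0), (12, 2, 1),
    (12, 4, 0), (12, 5, 4), (12, 7, 1), (12, 12, 2), (13, 2, 0)]

/-- Data. -/
noncomputable def ruConjs : List ℕ := [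
    0x29f02d19b2bb7ac2d474516071ee740fb7c069bfd0ca1d99ea0c96b71ee831d66bb65f8aaa53ffee1d0d15bfd4cc10d0dc68e6de62731f55faf6a9ef472c8a54fa8002ab89299c5dc828613efd237a7ce186f2e33c3f9dfdf8b49ab463412ccd1f62,
    0x5cb0cc69052e22d980900c354ac2f666b435b96985a5768c63fd00a47d52b448d70e40ebe4247da167c1e578d079c761e7d7249258635ee73fe478226f0707f182f47a4b6f07d9544c49ac4aa0b792d236ae0acb71f6c97687024400a2441fda6d83,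
    0x349bf09b3e4253bca5091f3ec87cdb7c18475091b30a8a4dd9302c08c08572f532588fff8d4ceb2aa8dfdbfada480344e6b006b2716bfd7b968e0b11b893dccb5e7dfea3c59518050a68b8061d671b495e485c419d6db248bffa595cd13001647449]

/-- Data. -/
noncomputable def ruPairs : List (ℕ × ℕ × ℕ) := [
    (0, 16, 15932), (0, 60, 15888), (0, 172, 8764), (0, 528, 3200), (1, 103, 13399), (1, 420, 1428), (1, 740, 4199), (1, 92, 415),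
    (2, 78, 12270), (2, 108, 15778), (2, 110, 6638), (2, 128, 4428), (2, 2306, 5454)]

/-- Data. -/
noncomputable def ruRels : List (ℕ × List ℕ × List ℕ) := [
    (0, [0, 0, 1, 2, 0], [0, 0, 1, 0, 2]), (1, [4, 7, 6, 5], [4, 5, 6, 7]),
    (1, [4, 4, 4, 6, 5, 5], [4, 4, 4, 5, 5, 6]), (1, [4, 4, 5, 7, 7, 5], [4, 4, 5, 5, 7, 7]),
    (2, [9, 11, 8, 10], [8, 11, 10, 9]), (2, [8, 12, 12, 8, 9], [8, 8, 9, 12, 12])]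

/-- Data. -/
noncomputable def ruProofs0 : List (ℤ × List (ℕ × ℤ)) := [
    (1, []),
    (0, [(0, 1), (1, -1), (2, 2), (3, -1), (4, 2), (5, -1), (6, -5), (7, -2), (9, 1), (10, -1), (12, -1), (14, -3), (17, 1), (20, 6), (21, -4), (23, 1), (24, -1), (25, -4), (26, 2), (29, 1), (30, -2), (31, -5), (32, -10), (33, 1), (34, 6), (35, -6), (36, -5), (37, 6), (38, -1), (39, -2), (40, 13), (41, 4), (42, 3), (43, 8), (44, -4), (45, -10), (46, 2), (47, -2), (48, 5), (49, -1), (50, -2), (51, -18), (52, 4), (53, 2), (54, 7), (55, 2), (56, -11), (57, -1), (58, 1), (59, -12), (60, -4), (61, -6), (62, 38), (63, -1), (64, -9), (65, 26), (66, -6), (67, 2), (68, 4), (69, 4), (70, -1), (71, -4), (72, -10), (73, -12), (74, -18), (75, -1), (76, -4), (77, -7), (78, -6), (80, 9), (81, -7), (84, -2),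 (86, 1), (87, 1), (89, -1), (90, 1)]),
    (-2, [(3, 1), (4, -1), (5, 1), (7, 1), (8, -1), (11, 1), (13, -1), (14, -1), (15, -1), (16, -1), (17, 1), (21, -2), (22, 1), (23, 1), (25, -3), (29, 2), (30, -1), (31, -7), (32, -3), (33, 1), (34, 2), (35, -1), (36, 3), (37, 3), (40, 4), (41, -2), (42, -3), (43, 1), (44, -1), (45, -3), (46, 1), (48, 2), (49, 1), (50, -1), (51, -5), (52, 2), (53, 1), (54, -1), (56, -2), (57, 4), (58, 1), (59, 1), (60, -2), (61, -1), (62, -6), (63, 1), (64, 1), (65, 2), (66, 2), (67, 2), (68, 2), (69, 2), (70, -1), (71, 2), (72, -6), (73, -6), (75, 4), (76, -1), (77, -1), (78, -4), (79, -5), (80, 4), (81, -4), (82, 2), (83, -1), (85, -1), (89, -1), (90, -1)]),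
    (0, [(3, 1), (20, -2), (31, -4), (34, -1), (36, 1), (40, -1), (42, 2), (45, 2), (55, -2), (56, -2), (59, 1), (61, 2), (62, 1), (63, -2), (64, -2), (65, 2), (73, 2), (74, 7), (75, 4), (76, -1), (77, -1), (79, -1), (80, -2), (82, 8), (83, -1), (84, 1), (90, -1)]),
    (-2, [(3, 1), (5, 1), (6, -1), (8, -1), (9, -1), (11, 1), (12, -1), (14, -1), (15, -1), (16, -2), (17, 1), (18, 1), (20, -1), (21, -1), (22, 1), (23, -4), (28, 1), (29, 1), (30, -2), (31, -6), (32, -3), (33, 2), (34, -3), (36, 5), (37, 2), (38, -2), (39, -2), (40, -5), (41, -1), (42, -4), (43, -4), (44, 5), (45, 1), (46, -1), (49, -3), (50, -1), (51, 2), (52, 2), (53, 3), (54, 1), (55, 4), (56, -1), (57, 2), (58, 1), (59, 4), (60, -1), (62, -2), (63, 3), (64, -9), (65, -2), (66, -4), (67, 1), (68, 2), (69, -5),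 (70, -2), (71, -2), (72, -7), (73, -3), (74, 6), (75, 2), (76, -1), (78, 2), (79, -4), (80, 6), (81, -4), (82, -3), (83, -1), (84, -2), (89, -1), (90, -1)]),
    (0, [(24, -1), (43, 1), (44, -1), (45, 1), (51, -1), (55, -1), (62, 1), (63, -1), (64, -1), (65, 1), (70, 2), (72, -1), (77, -1), (80, -2), (81, 2)]),
    (0, [(16, -1), (23, -1), (39, -1), (40, -2), (43, -1), (44, 1), (49, -1), (51, 1), (53, 1), (55, 2), (59, -1), (60, 1), (61, 1), (62, -1), (63, 1), (69, -2), (71, -1), (75, -1), (76, 2), (78, 1), (80, -1), (81, 1), (84, -1)]),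
    (0, [(34, 1), (36, -1), (40, 1), (42, 1), (47, -1), (56, -1), (59, -1), (60, 1), (62, 1), (75, -1), (82, 1), (84, -1)]),
    (0, [(62, 1), (64, -1), (67, -1)])]

/-- Data. -/
noncomputable def ruProofs1 : List (ℤ × List (ℕ × ℤ)) := [
    (0, [(72, -1), (77, -1)]),
    (0, [(82, -1), (83, -1)]),
    (0, [(0, 1)]),
    (0, [(0, -1), (2, -2), (3, 1), (4, -2), (5, 1), (6, 5), (7, 2), (9, -1), (10, 1), (12, 1), (14, 3), (17, -1), (20, -6), (21, 4), (23, -1), (24, 1), (25, 4), (26, -2), (29, -1), (30, 2), (31, 5), (32, 10), (33, -1), (34, -6), (35, 6), (36, 5), (37, -6), (38, 1), (39, 2), (40, -13), (41, -4), (42, -3), (43, -8), (44, 4), (45, 10), (46, -2), (47, 2), (48, -5), (49, 1), (50, 2), (51, 18), (52, -4), (53, -2), (54, -7), (55, -2), (56, 11), (57, 1), (58, -1), (59,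 12), (60, 4), (61, 6), (62, -38), (63, 1), (64, 9), (65, -26), (66, 6), (67, -2), (68, -4), (69, -4), (70, 1), (71, 4), (72, 10), (73, 12), (74, 18), (75, 1), (76, 4), (77, 7), (78, 6), (80, -9), (81, 7), (84, 2), (86, -1), (87, -1), (89, 1), (90, -1)]),
    (4, [(2, 1), (3, -2), (4, 1), (5, -2), (6, 1), (7, -1), (8, 2), (9, 1), (11, -2), (12, 1), (13, 1), (15, 2), (16, 5), (17, -2), (18, -1), (20, 3), (21, 1), (22, -2), (23, 7), (25, -1), (28, -1), (29, -3), (30, 3), (31, 13), (32, 6), (33, -3), (34, 2), (35, 1), (36, -7), (37, -1), (38, 1), (39, 3), (40, 8), (41, 3), (42, 6), (43, 7), (44, -5), (45, -2), (46, 2), (47, -1), (49, 4), (50, 2), (51, -1), (52, -4), (53, -5), (54, 2), (55, -6), (56, 2), (57, -6), (58, -2), (59, -8), (60, -2), (61, -4), (62, 18), (63, -4), (64,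 7), (65, 9), (66, -1), (67, -1), (68, -4), (69, 8), (70, -1), (71, 6), (72, 11), (73, 11), (74, -8), (75, -3), (76, -5), (77, 2), (78, -2), (79, 9), (80, 1), (81, -4), (82, 3), (83, 3), (84, 4), (85, 1), (89, 2), (90, 2)]),
    (2, [(3, -1), (5, -1), (7, -1), (8, 1), (11, -1), (13, 1), (14, -1), (15, 1), (16, 2), (17, -1), (20, 2), (23, 3), (29, -2), (30, 1), (31, 7), (32, 3), (33, -1), (34, 1), (35, 1), (36, -4), (37, 1), (39, 1), (40, 5), (41, 2), (42, 4), (43, 2), (44, -1), (45, -1), (46, -1), (47, -1), (49, 1), (50, 1), (51, 2), (52, -2), (53, -2), (55, -2), (56, 2), (57, -4), (58, -1), (59, -3), (60, -2), (61, -4), (62, 13), (63, -2), (65, 1), (66, -4), (68, -2), (69, 4), (70, -3), (71, 5), (72, 3), (73, 5), (74, -1), (75, -2), (76, -7), (77, 3), (78, -1), (79, 5), (80,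 7), (81, -5), (82, -3), (84, 1), (85, 1), (89, 1), (90, 1)]),
    (0, [(7, 1), (14, 1), (20, -1), (23, -1), (24, 1), (25, -1), (36, -1), (37, -1), (40, -1), (42, 1), (43, -1), (44, 1), (45, 1), (46, -1), (47, 1), (48, -1), (51, 1), (54, -1), (59, 1), (60, 2), (61, 1), (62, -3), (65, -5), (66, 1), (69, -1), (70, 1), (71, -2), (73, -3), (76, 2), (77, 1), (78, 1), (80, -3), (81, 4), (82, -2), (84, -1)]),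
    (1, [(2, -1), (4, -1), (6, 2), (7, -1), (11, -1), (13, -1), (14, -2), (15, 1), (16, 6), (17, 4), (18, 1), (19, 2), (22, 2), (23, 11), (26, 2), (29, 2), (30, 1), (32, 3), (33, 3), (34, 1), (35, -6), (36, -6), (37, 1), (39, 3), (40, 13), (41, -1), (42, 7), (43, 9), (44, -8), (46, 1), (47, -1), (48, -1), (49, 7), (51, -14), (52, -1), (53, -4), (54, 1), (55, -18), (56, -9), (57, 2), (58, 1), (59, 3), (60, -7), (61, 4), (62, 1), (63, -16), (64, 2), (65, 4), (66, -2), (67, 1), (68, 2), (69, 19), (70, -11), (71, 19), (72, -6), (73, -10), (74, 19), (75, 8), (76, -10), (77, -3), (78, -13), (79, -3), (80, 12), (81, -11), (82, 18), (83, -3), (84, 9), (85, -1), (88, 1), (90, -1)]),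
    (0, [(20, 2), (31, 4), (34, 1), (36, -1), (40, 1), (42, -2), (45, -2), (55, 2), (56, 2), (59, -1), (61, -2), (62, -1), (63, 2), (64, 2), (65, -2), (73, -2), (74, -7), (75, -4), (76, 1), (77, 1), (79, 1), (80, 2), (82, -8), (83, 1), (84, -1), (90, 1)])]

/-- Data. -/
noncomputable def ruProofs2 : List (ℤ × List (ℕ × ℤ)) := [
    (-1, [(6, -5), (8, -1), (11, 1), (12, -1), (16, -2), (19, 1), (21, -6), (22, 2), (23, -4), (25, -8), (29, 1), (30, -1), (31, -4), (32, -4), (33, 1), (34, -1), (35, -3), (37, 5), (39, -1), (40, -1), (41, 2), (42, -2), (44, 1), (45, -1), (46, -3), (47, -1), (49, -2), (50, -2), (51, -6), (52, 3), (53, 2), (54, 1), (55, 2), (56, -7), (57, 1), (58, 1), (59, 3), (60, 3), (61, -3), (62, 4), (63, -4), (64, -13), (66, -4), (67, 1), (68, 5), (69, -2), (70,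 4), (71, -3), (72, -12), (73, -16), (74, -3), (75, -2), (76, -10), (77, -3), (79, -6), (80, 1), (81, 5), (82, -12), (83, -4), (87, 1), (89, -1)]),
    (1, [(3, -1), (5, -1), (6, 5), (8, 2), (11, -1), (12, 1), (16, 2), (20, 2), (21, 6), (22, -2), (23, 4), (24, 1), (25, 8), (29, -1), (30, 1), (31, 8), (32, 4), (33, -1), (34, 4), (35, 3), (36, -3), (37, -5), (39, 1), (40, 4), (41, -2), (42, 2), (45, -2), (46, 3), (47, 1), (49, 2), (50, 2), (51, 6), (52, -3), (53, -2), (54, -1), (55, 1), (56, 7), (57, -1), (58, -1), (59, -6), (60, -1), (61, 2), (62, -3), (63, 7), (64, 15), (65, -2), (66, 4), (67, -1), (68, -5), (69, 2), (70, -6), (71, 3), (72, 13), (73, 14), (74, -4), (75, -3), (76, 11), (77, 5), (79, 7), (80, 3), (81, -7), (82, 7), (83, 6), (84, -3), (87, -1), (89, 1), (90, 1)]),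
    (0, [(13, 1), (17, -1), (23, 1), (29, -1), (31, 1), (32, 1), (34, 1), (35, 1), (36, 1), (40, 1), (41, -1), (42, -1), (43, 1), (44, -1), (46, -1), (50, 1), (51, 1), (52, -1), (54, -2), (55, 1), (56, 5), (59, 1), (60, -3), (62, 3), (63, 1), (65, -3), (68, -1), (71, 1), (75, 3), (76, -1), (77, 1), (79, 1), (81, 2), (82, -4), (84, -1)]),
    (-1, [(3, 1), (5, 1), (6, -5), (8, -1), (11, 1), (12, -1), (16, -2), (19, -1), (20, -2), (21, -6), (22, 2), (23, -4), (25, -8), (29, 1), (30, -1), (31, -8), (32, -4), (33, 1), (34, -4), (35, -3), (36, 2), (37, 5), (39, -1), (40, -4), (41, 3), (42, -1), (44, 1), (45, 1), (46, -3), (49, -2), (50, -2), (51, -6), (52, 3), (53, 2), (54, 1), (56, -9), (57, 1), (58, 1), (59, 6), (60, 2), (61, -3), (62, 3), (63, -6), (64, -15), (65, 2), (66, -4),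 (67, 1), (68, 5), (69, -2), (70, 4), (71, -3), (72, -12), (73, -14), (74, 4), (75, 3), (76, -11), (77, -4), (79, -7), (80, 1), (81, 3), (82, -7), (83, -5), (84, 3), (87, 1), (89, -1), (90, -1)]),
    (0, [(6, 1)]),
    (2, [(3, -1), (5, -1), (6, 1), (8, 1), (11, -1), (12, 1), (14, 1), (15, 1), (16, 2), (17, -1), (18, -1), (20, 1), (21, 1), (22, -1), (23, 4), (25, -1), (28, -1), (29, -1), (30, 2), (31, 6), (32, 3), (33, -2), (34, 3), (36, -5), (37, -2), (38, 2), (39, 2), (40, 5), (41, 1), (42, 4), (43, 4), (44, -5), (45, -1), (46, 1), (49, 3), (50, 1), (51, -2), (52, -2), (53, -3), (54, -1), (55, -4), (56, 1), (57, -2), (58, -1), (59, -4), (60, 1), (62, 1), (63, -3), (64, 10), (65, 2), (66, 4), (68, -2), (69, 5), (70, 2), (71, 2), (72, 7), (73, 3), (74, -6), (75, -2), (76, 1),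 (77, 1), (78, -2), (79, 4), (80, -6), (81, 4), (82, 3), (83, 1), (84, 2), (89, 1), (90, 1)]),
    (0, [(14, 1), (20, -1), (23, -1), (34, -1), (37, -1), (40, -2), (43, -1), (45, 2), (46, -1), (47, 1), (48, -1), (51, 1), (54, -1), (55, -1), (56, 1), (59, 2), (60, 1), (61, 1), (62, -4), (63, -1), (65, -5), (66, 1), (69, -1), (70, 2), (71, -2), (73, -2), (74, 1), (76, 2), (78, 1), (80, -4), (81, 5), (82, -2)]),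
    (0, [(19, -1), (34, -1), (40, -1), (41, 1), (47, 1), (56, -1), (59, 1), (61, -1), (62, -1), (80, 1), (81, -1), (82, -1), (84, 1)]),
    (0, [(3, 1), (5, 1), (6, -4), (7, 1), (8, -1), (10, 1), (11, 1), (14, 2), (15, 1), (16, -1), (17, -1), (18, -1), (19, -1), (20, -5), (21, -6), (22, 1), (23, -4), (25, -10), (26, -1), (28, -1), (29, 1), (31, -8), (32, -2), (33, -1), (34, -6), (35, -2), (36, 4), (37, 3), (38, 2), (40, -7), (41, 3), (42, -4), (44, -2), (45, 5), (46, -3), (47, 1), (48, -1), (50, -2), (51, -5), (52, 2), (55, -4), (56, -6), (57, 1), (59, 11), (60, 2), (61, -1), (62, -6), (63, -11), (64, -9), (65, -1), (68, 5), (69, -1), (70, 11), (71, -7), (72, -9), (73, -11), (74, 4), (75, 6), (76, -7), (77, -4), (78, 1), (79, -7), (80, -13), (81, 14), (82, -5), (83, -6), (84,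 7), (87, 1), (89, -1), (90, -1)])]

/-- Data. -/
noncomputable def ruProofs3 : List (ℤ × List (ℕ × ℤ)) := [
    (-1, [(11, 1), (82, 1), (83, 1)]),
    (0, [(26, -1), (31, 1), (32, 1), (34, -1), (36, 1), (40, -2), (42, -2), (55, 1), (56, 1), (59, 1), (62, -2), (63, 1), (69, -1), (78, 1), (82, -3)]),
    (-2, [(3, 1), (5, 1), (8, -1), (11, 1), (15, -1), (16, -2), (20, -2), (23, -4), (25, 1), (29, 1), (30, -1), (31, -7), (32, -3), (33, 1), (34, -2), (36, 5), (39, -1), (40, -5), (41, -1), (42, -3), (43, -4), (44, 3), (45, 1), (47, 1), (49, -2), (50, -1), (51, 2), (52, 2), (53, 2), (55, 5), (57, 2), (58, 1), (59, 5), (60, -1), (61, 2), (62, -6), (63, 3), (64, -4), (65, -2), (68, 2), (69, -4), (70, 2), (71, -5), (72, -3), (73, -2), (74, 3), (75, 5), (76, 3), (77, -1), (78, 2), (79,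 -4), (80, -3), (81, 2), (82, 2), (89, -1), (90, -1)]),
    (-1, [(3, 1), (5, 1), (8, -1), (11, 1), (20, -2), (23, -1), (25, 1), (30, -1), (31, -5), (32, -1), (33, 1), (34, -1), (36, 4), (39, -1), (41, -1), (42, -2), (43, -1), (45, 1), (47, 1), (51, 1), (54, -1), (55, -1), (56, 2), (57, 1), (58, 1), (59, 5), (60, -4), (61, 2), (62, -1), (63, -1), (64, -3), (65, -1), (68, 1), (70, 2), (71, -2), (72, -2), (73, -1), (74, 3), (75, 8), (76, 2), (79, -2), (80, -3), (81, 3), (82, 4), (84, 1), (89, -1), (90, -1)]),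
    (0, [(21, -1), (25, -2), (31, -1), (32, -1), (33, -1), (34, 2), (36, -1), (37, 1), (40, 3), (42, 1), (45, -1), (48, 1), (56, -1), (59, -2), (61, -1), (62, 3), (64, 1), (65, 1), (67, 1), (69, 1), (74, -1), (78, -1), (82, 2), (84, -1)]),
    (2, [(3, -1), (5, -1), (6, 1), (8, 1), (11, -1), (12, 1), (14, 1), (15, 1), (16, 2), (20, 1), (21, 1), (22, -1), (23, 4), (25, -1), (28, -1), (29, -1), (30, 2), (31, 6), (32, 2), (33, -2), (34, 3), (36, -6), (37, -2), (38, 2), (39, 2), (40, 6), (41, 1), (42, 4), (43, 4), (44, -5), (45, -1), (46, 1), (49, 3), (50, 1), (51, -2), (52, -2), (53, -3), (54, -1), (55, -5), (57, -2), (58, -1), (59, -4), (60, 1), (62, 2), (63, -4), (64, 10), (65, 2), (66, 4), (68, -2), (69, 6), (70, 2), (71, 2), (72, 7), (73, 3), (74, -6), (75, -3), (76, 1), (77,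 1), (78, -3), (79, 4), (80, -6), (81, 4), (82, 5), (83, 1), (84, 3), (89, 1), (90, 1)]),
    (0, [(17, 1), (34, -1), (40, -1), (42, -1), (59, 1), (62, -1), (84, 1)]),
    (0, [(20, -1), (45, 1), (55, -1), (63, -1), (70, 1), (74, 1), (80, -1), (81, 1)]),
    (0, [(21, 1), (22, -1), (25, 1), (37, -1), (40, -1), (43, 1), (46, 1), (51, -1), (55, 1), (59, -1), (60, 1), (61, 1), (62, -1), (63, 1), (65, 4), (66, 1), (69, -1), (70, 1), (71, -1), (72, 1), (73, 2), (74, -1), (76, 2), (77, -1), (78, 1), (80, -2), (82, 4), (83, 2), (84, -1)])]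

/-- Data. -/
noncomputable def ruProofs4 : List (ℤ × List (ℕ × ℤ)) := [
    (0, [(36, 1), (41, -1), (42, -2), (57, 1), (62, -1), (79, -1), (82, -1)]),
    (0, [(43, -1), (44, 1), (51, 1), (62, -1), (64, 1), (65, -1), (72, 1), (77, 1)]),
    (0, [(34, -1), (35, 1), (36, 1), (40, -1), (42, -1), (51, 1), (55, 1), (56, 1), (59, 2), (60, -1), (62, -1), (63, 1), (65, -1), (75, 1), (77, 1), (82, -1), (84, 1)]),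
    (-2, [(3, 1), (5, 1), (8, -1), (11, 1), (15, -1), (16, -1), (20, -2), (23, -4), (25, 1), (28, 1), (29, 1), (30, -1), (31, -7), (32, -3), (33, 1), (34, -2), (36, 5), (38, -1), (39, -1), (40, -4), (41, -1), (42, -3), (43, -4), (44, 4), (45, 1), (47, 1), (49, -2), (50, -1), (51, 2), (52, 2), (53, 2), (54, 1), (55, 4), (56, -1), (57, 2), (58, 1), (59, 4), (60, -1), (61, 2), (62, -4), (63, 3), (64, -5), (65, -2), (68, 2), (69, -4), (70, 2), (71, -5), (72, -3), (73, -2), (74, 3), (75, 5), (76, 3), (77, -1), (78, 2), (79, -4), (80, -3), (81, 3), (82, 2), (84, -2), (89, -1), (90, -1)]),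
    (-1, [(3, 1), (5, 1), (8, -1), (11, 1), (20, -2), (23, -2), (25, 1), (29, 1), (30, -1), (31, -6), (32, -2), (33, 1), (34, -2), (36, 5), (39, -1), (40, -1), (41, -1), (42, -4), (43, -2), (44, 1), (45, 1), (47, 1), (50, -1), (51, 1), (52, 1), (55, -1), (57, 2), (58, 1), (59, 6), (60, -3), (61, 2), (62, -4), (63, -1), (64, -3), (65, -1), (68, 2), (70, 2), (71, -3), (72, -2), (73, -1), (74, 3), (75, 7), (76, 2), (79, -4), (80, -3), (81, 2), (82, 4), (84, 2), (89, -1), (90, -1)]),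
    (0, [(16, 1), (21, -1), (23, 1), (25, -2), (30, 1), (31, -1), (32, -1), (33, -1), (34, 2), (36, -1), (37, 1), (39, 1), (40, 5), (42, 1), (43, 1), (44, -1), (45, -1), (48, 1), (49, 1), (51, -1), (53, -1), (55, -2), (56, -1), (59, -1), (60, -1), (61, -2), (62, 4), (63, -1), (64, 1), (65, 1), (67, 1), (69, 3), (71, 1), (74, -1), (75, 1), (76, -2), (78, -2), (80, 1), (81, -1), (82, 2)]),
    (0, [(31, 1), (32, 1), (34, -2), (36, 1), (40, -3), (42, -1), (45, 1), (48, -1), (56, 1), (59, 2), (62, -4), (65, -1), (69, -1), (74, 1), (78, 1), (82, -2), (84, 1)]),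
    (0, [(16, 1), (34, 1), (36, -1), (38, -1), (40, 3), (42, 1), (44, 1), (55, -2), (56, -1), (59, -2), (62, 3), (63, -1), (64, -1), (65, 1), (69, 1), (82, 3), (83, 1), (84, -2)]),
    (0, [(23, -1), (31, -1), (32, -1), (34, -1), (36, 1), (40, -1), (42, -2), (43, -1), (44, 1), (50, -1), (52, 1), (56, -2), (57, 1), (59, 1), (60, 1), (61, -1), (62, -3), (68, 1), (71, -1), (75, -1), (79, -2), (80, 1), (81, -1), (82, -1), (84, 1)])]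

/-- Data. -/
noncomputable def ruProofs5 : List (ℤ × List (ℕ × ℤ)) := [
    (0, [(21, 1), (25, 1), (37, -1), (61, 1), (62, -1), (64, 1), (66, 1), (76, 1), (80, -1), (81, 1), (82, 1), (83, 1)]),
    (0, [(16, 1), (23, 1), (40, 2), (43, 1), (44, -1), (49, 1), (51, -1), (53, -1), (55, -2), (59, 1), (60, -1), (62, 1), (63, -1), (69, 2), (71, 1), (75, 1), (78, -1), (82, 1), (84, 1)]),
    (0, [(46, 1), (54, 1), (56, -1), (59, -1), (65, 1), (81, -1), (82, 1), (83, 1)]),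
    (0, [(34, 1), (40, 1), (59, -1), (62, 1), (84, -1)]),
    (0, [(23, 1), (34, -1), (36, 1), (40, -1), (42, -1), (43, 1), (44, -1), (51, -1), (56, 1), (59, 1), (60, -1), (62, -1), (64, -1), (71, 1), (75, 1), (82, -2), (84, 1)]),
    (0, [(51, -1), (62, 1), (64, -1)]),
    (0, [(16, -1), (23, -1), (40, -1), (43, -1), (44, 1), (49, -1), (51, 1), (55, 1), (60, 1), (62, -2), (63, 1), (69, -1), (71, -1), (75, -1), (78, 1), (82, -1)]),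
    (0, [(34, 1), (36, -1), (40, 1), (42, 2), (57, -1), (59, -1), (62, 2), (79, 1), (82, 1), (84, -1)]),
    (0, [(44, -1), (65, -1)])]

/-- Data. -/
noncomputable def ruProofs6 : List (ℤ × List (ℕ × ℤ)) := [
    (0, [(59, -1)]),
    (0, [(34, -1), (36, 1), (40, -1), (42, -1), (56, 1), (59, 1), (60, -1), (62, -1), (75, 1), (82, -1), (84, 1)]),
    (0, [(54, 1), (56, -1), (62, 1)]),
    (0, [(31, -1), (32, -1), (51, -1), (52, 1), (72, -1), (73, -1), (82, -1)]),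
    (0, [(21, 1), (25, 1), (83, 1)]),
    (0, [(45, 1), (55, -1), (58, -1), (63, -1), (72, -1), (74, 1)]),
    (0, [(38, 1), (40, -1), (44, -1), (55, 1), (59, 1), (62, -1), (64, 1), (65, -1), (73, -1), (84, 1)]),
    (0, [(56, 1), (68, -1), (79, 1), (82, -1), (83, 1)]),
    (0, [(25, 1), (80, 1), (81, -1)])]

/-- Data. -/
noncomputable def ruProofs7 : List (ℤ × List (ℕ × ℤ)) := [
    (0, [(55, -1)]),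
    (0, [(70, -1), (74, 1), (80, 1), (81, -1)]),
    (0, [(62, 1), (64, -1), (66, -1)]),
    (0, [(62, -1), (64, 1)]),
    (0, [(45, 1), (55, -1), (63, -1), (74, 1)]),
    (0, [(42, 1)]),
    (0, [(31, -1)]),
    (0, [(34, -1), (36, 1), (40, -2), (42, -1), (55, 1), (56, 1), (59, 1), (62, -2), (63, 1), (69, -1), (82, -2), (84, 1)]),
    (0, [(34, -1), (36, 1), (40, -1), (42, -1), (59, 1), (62, -2), (79, -1), (82, -1), (84, 1)])]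

/-- Data. -/
noncomputable def ruProofs8 : List (ℤ × List (ℕ × ℤ)) := [
    (0, [(80, -1), (81, 1)]),
    (0, [(63, -1)]),
    (0, [(74, -1)]),
    (0, [(81, -1), (82, 1)]),
    (0, [(65, 1)]),
    (0, [(72, 1)]),
    (0, [(34, -1), (36, 1), (40, -2), (42, -1), (55, 1), (56, 1), (59, 1), (62, -2), (63, 1), (69, -1), (78, 1), (82, -2)]),
    (0, [(34, -1), (36, 1), (40, -1), (42, -1), (56, 1), (59, 1), (62, -2), (82, -1), (84, 1)]),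
    (0, [(61, 1), (80, -1), (81, 1), (82, 1)])]

/-- Data. -/
noncomputable def ruProofs9 : List (ℤ × List (ℕ × ℤ)) := [
    (0, [(32, -1)]),
    (0, [(84, -1)]),
    (0, [(56, 1)]),
    (0, [(71, -1)]),
    (0, [(40, 1)]),
    (0, [(75, -1)]),
    (0, [(76, -1)]),
    (0, [(62, 1)]),
    (0, [(73, 1)])]

/-- Data. -/
noncomputable def ruProofs10 : List (ℤ × List (ℕ × ℤ)) := [
    (0, [(82, 1)])]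

/-- The certificate. -/
noncomputable def upperRu : HS.Cert where
  n := 14
  nb := 3
  gens := ruGens
  sqR := ruSq
  cmR := [ruCm0, ruCm1, ruCm2, ruCm3, ruCm4, ruCm5, ruCm6, ruCm7, ruCm8, ruCm9, ruCm10, ruCm11, ruCm12, ruCm13]
  defs := [
    (1, 0), (2, 0), (2, 1), (3, 2), (4, 1), (6, 0), (7, 2), (8, 2), (10, 0),
    (11, 0), (12, 2)]
  vars := ruVars
  e := 3
  tri := ruTri
  conjs := ruConjs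
  pairs := ruPairs
  rels := ruRels
  proofs := ruProofs0 ++ ruProofs1 ++ ruProofs2 ++ ruProofs3 ++ ruProofs4 ++ ruProofs5 ++ ruProofs6 ++ ruProofs7 ++ ruProofs8 ++ ruProofs9 ++ ruProofs10
  eExp := 2
  eOrder := [(11, 2), (27, -1), (34, -1), (36, 1), (40, -1), (42, -1), (56, 1), (59, 1), (62, -2), (83, 1), (84, 1)]
  ord := []

end Cfsg.Agent.H94.Ru
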